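import Cfsg.Agent.Spor.OnUc.D0

set_option autoImplicit false
set_option maxRecDepth 100000000
set_option Elab.async false

namespace Cfsg.Agent.Spor.OnUc

theorem ok0 : Net.okb 8 n0 = true := by decide +kernel

theorem ok1 : Net.okb 8 n1 = true := by decide +kernel

theorem ok2 : Net.okb 8 n2 = true := by decide +kernel

theorem ok3 : Net.okb 8 n3 = true := by decide +kernel

theorem ok4 : Net.okb 8 n4 = true := by decide +kernel

theorem rel0 : T.rel 8 [8, 6, 3, 1] 0 8 = true := by decide +kernel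

theorem rel1 : T.rel 8 [8, 7, 8, 2, 3, 2] 0 8 = true := by decide +kernel

theorem rel2 : T.rel 8 [7, 6, 7, 6, 7, 1, 2, 1, 2, 1] 0 8 = true := by decide +kernel

theorem rel3 : T.rel 8 [6, 7, 3, 7, 1, 2, 8, 2] 0 8 = true := by decide +kernel

theorem rel4 : T.rel 8 [9, 6, 9, 1, 4, 1] 0 8 = true := by decide +kernel

theorem rel5 : T.rel 8 [9, 7, 9, 7, 9, 2, 4, 2, 4, 2] 0 8 = true := by decide +kernel

theorem rel6 : T.rel 8 [9, 8, 9, 8, 9, 3, 4, 3, 4, 3] 0 8 = true := by decide +kernel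

theorem rel7 : T.rel 8 [7, 1, 9, 1, 9, 2, 4, 6, 4, 6] 0 8 = true := by decide +kernel

theorem rel8 : T.rel 8 [8, 1, 9, 1, 9, 3, 4, 6, 4, 6] 0 8 = true := by decide +kernel

theorem rel9 : T.rel 8 [6, 2, 1, 2, 9, 2, 1, 2, 9, 1, 4, 7, 6, 7, 4, 7, 6, 7] 0 8 = true := by decide +kernel

theorem rel10 : T.rel 8 [7, 2, 1, 2, 9, 2, 1, 2, 9, 2, 4, 7, 6, 7, 4, 7, 6, 7] 0 8 = true := by decide +kernel

theorem rel11 : T.rel 8 [8, 2, 1, 2, 9, 2, 1, 2, 9, 3, 4, 7, 6, 7, 4, 7, 6, 7] 0 8 = true := by decide +kernel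

theorem rel12 : T.rel 8 [9, 2, 1, 2, 1, 3, 2, 9, 8, 9, 8, 6, 9, 4, 4, 1, 3, 4, 3, 4, 7, 8, 6, 7, 6, 7] 0 8 = true := by decide +kernel

theorem rel13 : T.rel 8 [9, 7, 6, 7, 6, 9, 7, 9, 7, 6, 9, 4, 4, 1, 2, 4, 2, 4, 1, 2, 1, 2] 0 8 = true := by decide +kernel

theorem rel14 : T.rel 8 [9, 7, 3, 7, 3, 4, 8, 2, 8, 2] 0 8 = true := by decide +kernel

theorem rel15 : T.rel 8 [1, 1, 1] 0 8 = true := by decide +kernel

theorem rel16 : T.rel 8 [2, 2, 2] 0 8 = true := by decide +kernel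

theorem rel17 : T.rel 8 [3, 3, 3] 0 8 = true := by decide +kernel

theorem rel18 : T.rel 8 [4, 4, 4] 0 8 = true := by decide +kernel

theorem rel19 : T.rel 8 [2, 1, 2, 1, 2, 1, 2, 1, 2, 1, 2, 1, 2, 1, 2, 1, 2, 1, 2, 1, 2, 1, 2, 1, 2, 1, 2, 1, 2, 1, 2, 1, 2, 1, 2, 1, 2, 1, 2, 1] 0 8 = true := by decide +kernel

theorem rel20 : T.rel 8 [4, 1, 7, 4, 7, 4, 6, 2, 6, 2, 1] 0 8 = true := by decide +kernel

theorem rel21 : T.rel 8 [5, 5] 0 8 = true := by decide +kernel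

theorem rel22 : T.rel 8 [1, 10, 1, 5] 0 8 = true := by decide +kernel

theorem rel23 : T.rel 8 [3, 9, 8, 4, 8, 10, 2, 5] 0 8 = true := by decide +kernel

theorem rel24 : T.rel 8 [3, 10, 3, 5] 0 8 = true := by decide +kernel

theorem rel25 : T.rel 8 [1, 7, 6, 2, 6, 10, 4, 5] 0 8 = true := by decide +kernel

theorem hcov : T.treeCov (ones 224) L 1 = true := by decide +kernel

theorem hg : lall (fun z => band (memL L z) (band (sub (ones 224) (T.let z).cl) (T.closed (ones 224) z))) gs = true := by decide +kernel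

theorem hivk : ivOk (2 * 0) EX IV = true := by decide +kernel

theorem hrt : RT.ok (2 * 0) EX RL = true := by decide +kernel

theorem hdefs : defs F 528 = true := by decide +kernel

noncomputable def st0_l : List Nat := [nat_lit 0x3ff, nat_lit 0x3ff, nat_lit 0x3ff, nat_lit 0x1402, nat_lit 0x1800000004200000080001c05, nat_lit 0x400000000424002118010900084600001000078000dc09, nat_lit 0x120000180000000420002110010840084400421000028000540a, nat_lit 0x801, nat_lit 0x20021000000c03, nat_lit 0x20021200000c03, nat_lit 0x14800034000040021100109400844004250000280007409, nat_lit 0x260000300004403, nat_lit 0x200000300002c03, nat_lit 0x220000300003403, nat_lit 0x400003c02, nat_lit 0x500004402, nat_lit 0x3001, nat_lit 0x10002200000c403, nat_lit 0x442000080000000084a000010000880110c07, nat_lit 0xa00006c02, nat_lit 0xb00007402, nat_lit 0x6001, nat_lit 0x1c0022500013403, nat_lit 0xf00009402, nat_lit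 0x8801, nat_lit 0x150000bc02, nat_lit 0xb80087a00037002150010f805, nat_lit 0x4390022a0000b800010000070000f80016407, nat_lit 0xe00001c0000b0022a00114805, nat_lit 0x1e00010402, nat_lit 0x258000d80003c0001f8001c405, nat_lit 0x1f00010c02, nat_lit 0x220010b002, nat_lit 0x11801, nat_lit 0x1200088e000530021a80112005, nat_lit 0x2a00015c02, nat_lit 0x840002a00016403, nat_lit 0x2f00018c02, nat_lit 0x18001, nat_lit 0x620023600023c03, nat_lit 0x1a801, nat_lit 0x360001bc02, nat_lit 0x3a0001dc02, nat_lit 0x4300022402, nat_lit 0x4500023402, nat_lit 0x24001, nat_lit 0x42f002108010880084200423002100010b807, nat_lit 0xf8000240047d002180011f400860000130001e8001bc09, nat_lit 0x1d0008b40006f0023f00117c05, nat_lit 0x11d0009020045e0003880117005, nat_lit 0x1b8008b6000770024180117405, nat_lit 0x1e0008bc0047f0023900025c05, nat_lit 0x1d8000800003f0023f8011c805, nat_lit 0x3c00120002, nat_lit 0x1210000dc0003c000218001e405,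 nat_lit 0x4f00001c02, nat_lit 0xa20024780008403, nat_lit 0x2900091e004280024700029405, nat_lit 0x124c001480009e00000001088000020009f0005280124809, nat_lit 0x124c001480009e00000001090000020009f0005280124809, nat_lit 0x29801, nat_lit 0xa60024780008c03, nat_lit 0xa60004f00003403, nat_lit 0x3c000090010c000004000010000680127007, nat_lit 0x5400028402, nat_lit 0x5500028c02, nat_lit 0x5600029402, nat_lit 0x2b00091e004290000300109c05, nat_lit 0x2d001, nat_lit 0x5b0002bc02, nat_lit 0x5c0002c402, nat_lit 0xb80005000123c0003e000590022b00124007, nat_lit 0x5d0002cc02, nat_lit 0x5e0012b802, nat_lit 0x30001, nat_lit 0xc00005100029c03, nat_lit 0x610002fc02, nat_lit 0x31001, nat_lit 0xc40024900031403, nat_lit 0xc40024b80031403, nat_lit 0x4bb002498012540092600494002490012e807, nat_lit 0x6300127802, nat_lit 0x640012d802, nat_lit 0xc8000530002ac03, nat_lit 0x3280093c0006d002440001d8008b40049f0024d80017409,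 nat_lit 0x6600032c02, nat_lit 0x34000942000b90025780128805, nat_lit 0x6a00033c02, nat_lit 0x35800150000a3002570012b405, nat_lit 0x36000154000a10005c8012c805, nat_lit 0x6e00129c02, nat_lit 0x370001580009e0021380135005, nat_lit 0x6e00129400924004950024980125400926000a4000508002ec0a, nat_lit 0x178000480048e00056800374009ac004d90005d0002dc09, nat_lit 0xe00025380005c03, nat_lit 0x38801, nat_lit 0xe20025380006403, nat_lit 0x7200037c02, nat_lit 0xea000570002c403, nat_lit 0xee000570002d403, nat_lit 0x790003b402, nat_lit 0x3c800954004da0002f00118005, nat_lit 0x3d000958004af0025100036405, nat_lit 0x3d000160000a0000518002f405, nat_lit 0x3d801, nat_lit 0xf6000580002d403, nat_lit 0x3e800164000b70026d0011ac05, nat_lit 0x7e0003ec02, nat_lit 0x7f00139802, nat_lit 0xfe0005a0002dc03, nat_lit 0xfe002548002dc03, nat_lit 0x800013c802, nat_lit 0x1000005a0002e403, nat_lit 0x8300040c02, nat_lit 0x8500042402,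 nat_lit 0x8600136802, nat_lit 0x44801, nat_lit 0x8a00043c02, nat_lit 0x8b00136002, nat_lit 0x47001, nat_lit 0x4780017c000a20005280124800948004a70000b80137009, nat_lit 0x9000046c02, nat_lit 0x9400048c02, nat_lit 0x9500049402, nat_lit 0x9600049c02, nat_lit 0x4c001, nat_lit 0x990004bc02, nat_lit 0x1340025d80125800148000a30005f80048407, nat_lit 0x147801, nat_lit 0x50f0009080147803, nat_lit 0x9c00130c0007800012002188011f400862000130001f8001cc0a, nat_lit 0x4e80018c000cb0026480017000934000c70009c80149409, nat_lit 0x4f001, nat_lit 0x9f0004e402, nat_lit 0xa00004ec02, nat_lit 0xa200132402, nat_lit 0x1a0000640043a0002e8014b805, nat_lit 0x52001, nat_lit 0xa500051c02, nat_lit 0x53000996004c90002e0010ec05, nat_lit 0xa900053c02, nat_lit 0x152000660012d800180004ae002800013fc07, nat_lit 0x1560006800034c03, nat_lit 0xac0014f002, nat_lit 0x1580006900035c03, nat_lit 0xae00056c02, nat_lit 0x15c0029e0005580099a004c6002628004b407,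 nat_lit 0x1600026980046403, nat_lit 0x5380029d8013f800a02004b20008c80151807, nat_lit 0x59001, nat_lit 0xb300058c02, nat_lit 0x598001b4000aa0005280125c00148000ab0006d80059c09, nat_lit 0x12a0025a801288001b600167002a700153407, nat_lit 0x54b000b180154003, nat_lit 0x1680006e00038c03, nat_lit 0x1680026a80006403, nat_lit 0x40000090010c000004000050000c80155807, nat_lit 0x16a0006e00039c03, nat_lit 0x16a0026a80007403, nat_lit 0x1100026c00135400036000530021a80157007, nat_lit 0xb700144002, nat_lit 0x1720027080013403, nat_lit 0x1720026f80039c03, nat_lit 0x565000730012940092c004a40007380159007, nat_lit 0xba0005c402, nat_lit 0x5d0002e600566000b90005d405, nat_lit 0x178000740002b800940000d70026880139007, nat_lit 0x17a002728003dc03, nat_lit 0x17a000750003bc03, nat_lit 0x5f0009d0004eb0023080018c05, nat_lit 0xbf0005f402, nat_lit 0x5f8001d8000ae0005d80043c05, nat_lit 0xc30013ac02, nat_lit 0x618001e4000ae0005d80045405,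 nat_lit 0x1880027780046403, nat_lit 0x1880027680058403, nat_lit 0xc50015b802, nat_lit 0x18a0007b0003e403, nat_lit 0xc60014e802, nat_lit 0x1900007c001340001ac004a10005b80042407, nat_lit 0x648009ee004f5000310010b405, nat_lit 0xca00064c02, nat_lit 0x650009ee004f50023500141805, nat_lit 0x1960027e8002d8001400048f0000f80015c07, nat_lit 0x163801, nat_lit 0x66801, nat_lit 0xcf00066402, nat_lit 0x1a6000830013c8001ec000f5000c48015f407, nat_lit 0x528009940014f002a480151c00b2c001a60028180067c09, nat_lit 0x6a001, nat_lit 0xd600069402, nat_lit 0xd700069c02, nat_lit 0x1ae000830013c8001ec004d0002a00014fc07, nat_lit 0x6e801, nat_lit 0x70801, nat_lit 0xe200163002, nat_lit 0x71000218000b60005d80045405, nat_lit 0xe300070402, nat_lit 0x72801, nat_lit 0x1ca0008700044c03, nat_lit 0xe70015d802, nat_lit 0x7380021c004b10007e80064c05, nat_lit 0x73800a140057a002bc80011005, nat_lit 0x574002d80016d40002800004002110000040013e000a10005b8004240b,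 nat_lit 0x1b0002db0015d003, nat_lit 0x1b2002db0015cc03, nat_lit 0x1b4002db0005f003, nat_lit 0x2dc0006c002, nat_lit 0x2dd0006c802, nat_lit 0x2de0006d002, nat_lit 0x71000a0e0046b002e0800420009b40005e002168016d009, nat_lit 0xe600073c00b88005a7002c580162400028004a6000728005dc0a, nat_lit 0x74001, nat_lit 0x1d00008800044c03, nat_lit 0x1d20008800045403, nat_lit 0xea0016b802, nat_lit 0x1d40008900045403, nat_lit 0xec00075c02, nat_lit 0xee00076c02, nat_lit 0xef00165802, nat_lit 0x78000234000be000510002940092c004a4000708005bc09, nat_lit 0x78801, nat_lit 0x1e20028900148403, nat_lit 0x177400268004bf0009a80177005, nat_lit 0x1e40008d00047c03, nat_lit 0x1e60028780047c03, nat_lit 0xf50007a402, nat_lit 0x7a800a46001340025f0004dc05, nat_lit 0x1ec0028980176800bbc005db002890007b407, nat_lit 0x4b80097200121000f68017a4003d8001200025c0004bc09, nat_lit 0x278000c60024c80028c001860012f002f50004b808, nat_lit 0x130002f60014a403,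 nat_lit 0x2f700146c02, nat_lit 0x2f70004c002, nat_lit 0x178400ac0005d8000f0000468009700012f002f500147009, nat_lit 0xbc6005e0002fa80147400bd40012e002f800130c08, nat_lit 0x1e7002fb8000f003, nat_lit 0x1e8002fc80004803, nat_lit 0x2fc00148c02, nat_lit 0x2fc00047002, nat_lit 0x2fd00179002, nat_lit 0x138002618000f000bfe004b8002f90004e407, nat_lit 0x52b003018004e000be6000c20006080048c07, nat_lit 0x6000021980004c0007a0049f0025b00049407, nat_lit 0xb800155000ab000040000090010c400c0200607000920004a40a, nat_lit 0x3040015a002, nat_lit 0x3040005c002, nat_lit 0x145c00c0c006000021800004c0007a0049f0024d80016c09, nat_lit 0x562002b38005c800c18001280009580154807, nat_lit 0xf700181002, nat_lit 0x1ee0028a00182c00ad600174002aa00156007, nat_lit 0x5fc0002080185003, nat_lit 0xf90007c402, nat_lit 0x7c800244004b70024d80017400990000ca0025b00049c09, nat_lit 0x1f40030300179c03, nat_lit 0x7d000a2c005520030800013005,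 nat_lit 0xfb00186802, nat_lit 0x7e800a2a001f30030d80146005, nat_lit 0x7f801, nat_lit 0x8000025800123000f980188005, nat_lit 0x202000960013100098e000d9000b08015f807, nat_lit 0x204002fe0000f403, nat_lit 0x8200026c004bd0009a80185c003dc001220009580183c09, nat_lit 0x10600149c02, nat_lit 0x1060004e80027e006120030b0004d00097a004c00009a80081c0a, nat_lit 0x8500028000139002928018b805, nat_lit 0x85800284000c80024f0018a805, nat_lit 0x86001, nat_lit 0x218000a200052403, nat_lit 0x8680028c000ca0025b0004b40040600629002be80077c09, nat_lit 0x533000a380086c00c76005d7000d300166807, nat_lit 0x10e0018e002, nat_lit 0x21c000a400132403, nat_lit 0x21c000a4000328009320009e000078000d407, nat_lit 0xc7c006410002e0011440091c000a90006a80057c08, nat_lit 0x3220018dc02, nat_lit 0x3220018f802, nat_lit 0x10f00166402, nat_lit 0x87800a6a0021b0031d80175c00b3c005a10029e80056c09, nat_lit 0x220000a600054403, nat_lit 0x64e001100014dc00882000070001280017c07,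 nat_lit 0x222000a600054c03, nat_lit 0x15bc00a74001520006600127400a6c0014c000a980194809, nat_lit 0xd1000418009cc00570002b78014e800ca400654002b88006040a, nat_lit 0x32b00068802, nat_lit 0xce00140800cb0001800027c00065c06, nat_lit 0x32d00067002, nat_lit 0xb260065c002c800119804, nat_lit 0x32f00164c02, nat_lit 0x32f00066802, nat_lit 0x1980033000021403, nat_lit 0x184000780002b800950001030033100119c07, nat_lit 0x664002ca00192800c9a00542002a280189007, nat_lit 0x1780089c0005700333000610001e0004aa000848016f809, nat_lit 0x33500194002, nat_lit 0xe000043000956000ed000bf8019a8008d6005c1002df0015dc0a, nat_lit 0x1c8003370016a803, nat_lit 0x1cc0033700070003, nat_lit 0x33800072002, nat_lit 0x33900073002, nat_lit 0x5c60033980043003, nat_lit 0x1770033c8012ac03, nat_lit 0xe80033d00039003, nat_lit 0xf00033d00138c03, nat_lit 0x33e0003a002, nat_lit 0x1780033e80039c03, nat_lit 0x1840033f8005b403, nat_lit 0x3410015b402,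 nat_lit 0x34200199c02, nat_lit 0x5b2002d88019a8009b600109002e10003b00015c000a00004f00003c0b, nat_lit 0x5b3003458000d403, nat_lit 0x34500162402, nat_lit 0x3460016d402, nat_lit 0x6430034600171003, nat_lit 0x3460016c402, nat_lit 0x6490034980071003, nat_lit 0x5a60034900087003, nat_lit 0x34900190c02, nat_lit 0x1c20034b00191c03, nat_lit 0x1c60034b00057803, nat_lit 0x34c00163402, nat_lit 0x34e00169402, nat_lit 0x34e00070802, nat_lit 0x34f00071802, nat_lit 0x34f0019d402, nat_lit 0x11a800cd6005bf000840012ac00d00000dd0028600076c09, nat_lit 0x34d801a5400cd4005060033b8015d800cd4004db000858006fc0a, nat_lit 0x35600071002, nat_lit 0x5a8003568006f803, nat_lit 0x356001a6c02, nat_lit 0x1b60035800045003, nat_lit 0x5cd003588006e403, nat_lit 0x5d1003588006ec03, nat_lit 0x1bc0035800142c03, nat_lit 0x35a0006d802, nat_lit 0x35b00074802, nat_lit 0x35c00173c02, nat_lit 0x35c00075002, nat_lit 0x35d0006f002, nat_lit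 0x3278019b000aee0010e0005d0002800091e0002500216800050009a8004d900087801aa0001a8000a80005680037c12, nat_lit 0x16c0036300193c03, nat_lit 0x66d00364001a2403, nat_lit 0x5be0036580119803, nat_lit 0x36600141002, nat_lit 0x5870036680021403, nat_lit 0x6680036800064003, nat_lit 0x5830036900189403, nat_lit 0x6230036a00160403, nat_lit 0x2000036a00062803, nat_lit 0x36b0007e802, nat_lit 0x36c00080002, nat_lit 0x6260036c80063403, nat_lit 0x36f00188402, nat_lit 0x36f0007d802, nat_lit 0x2ea801aa8000c400024002470002840016e0010b003620019d80a, nat_lit 0x6a10037200077003, nat_lit 0x373001a8402, nat_lit 0x63c0037380143403, nat_lit 0x1680037500166c03, nat_lit 0x1aa0037600155c03, nat_lit 0x1ac0037600156003, nat_lit 0x3770006a802, nat_lit 0x37800167402, nat_lit 0xaa00133800d4e006e80008b00043c00cec006ae003598000d00a, nat_lit 0x1550037b8010f003, nat_lit 0x37c00033802, nat_lit 0x3ac00509000878019d800dd0001160035e80168808,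 nat_lit 0x37e00174802, nat_lit 0x18c0027880139000d0c0055a002af001af807, nat_lit 0x463003470010f000df6000a80024780114007, nat_lit 0x53100351801ba000a1a004d50000a801a4007, nat_lit 0x7050034880118803, nat_lit 0x1820027c0013ec0021a006a40029780023407, nat_lit 0xb92006be00380001b8c04, nat_lit 0x1f80038500172c03, nat_lit 0x3860007e002, nat_lit 0x6e300387001b0803, nat_lit 0x46e00031001138000aa006cf003620016b007, nat_lit 0x7c000a28006da002b78014e805, nat_lit 0x1bf800e20005850038a00186000dc00071100360801c4809, nat_lit 0x69000de40061e0030e8004d80097a00135001028018d009, nat_lit 0x1bd000080000120023e00004c0007e00073003170018c40040c001340025e0004dc0026c00135001028018d011, nat_lit 0x383801c0c009340049e0022d801bd400e320071a0037a0001dc0a, nat_lit 0x8e000300010b40008e007060038e80120c07, nat_lit 0xfe0004b0002560060f0002d00016c00c58002080009b0013000026a002050031a001c6800348001060008280068412, nat_lit 0x3900007f002,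 nat_lit 0x38e00024c02, nat_lit 0x63800dba00722000d0000410009cc00183003848011e009, nat_lit 0x212000a000031800196004c900045801c980031c006dd0009600048c0b, nat_lit 0x2130039480181003, nat_lit 0x214003958014ac03, nat_lit 0x210003950014b403, nat_lit 0x6320039680082c03, nat_lit 0x39700084002, nat_lit 0x39800083002, nat_lit 0x4c00122c000e80045a002610004e400c040052a0039900083c0a, nat_lit 0x107001cd00041400603002928001c8008fe0047200244001c940a, nat_lit 0x6c3000ec801c5c00e3e0048200392801ce000e6c0009800243801c780b, nat_lit 0x5a20039d8011b803, nat_lit 0x6bd0039e80018803, nat_lit 0x4d90039f80009003, nat_lit 0x48f003a000135403, nat_lit 0x4f801d0c02, nat_lit 0x3a200001c02, nat_lit 0x16003a200002c03, nat_lit 0x1c003a200004403, nat_lit 0x18003a200003403, nat_lit 0x22003a300006403, nat_lit 0x1900086e00010000038010a400e8c00426000088000ec09, nat_lit 0x442003a500113403, nat_lit 0x3c000090010c0000040000100006801d3007,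 nat_lit 0x45a003aa801d3400018004270000c801d3807, nat_lit 0x13800ea80006d002440001d8008b400755003a700017409, nat_lit 0x471003a80011e803, nat_lit 0x25001d5002, nat_lit 0x2d001d5802, nat_lit 0x390000f800024004300023e0010c0000260003d003ae0001ec0a, nat_lit 0x1d84000f40075d0022d8001dc009120006c003ae0001f409, nat_lit 0x11200004c02, nat_lit 0x8a00044800433001128008a405, nat_lit 0x8b001, nat_lit 0x11700089c02, nat_lit 0x1180008a402, nat_lit 0x1190008ac02, nat_lit 0x8d00044c002240021800004c0007a00755003a700016c09, nat_lit 0x236001130008a403, nat_lit 0x8e801, nat_lit 0x23a001130008b403, nat_lit 0x11e0008d402, nat_lit 0x23c0011300089000866000130001e801d5407, nat_lit 0x160000c801de803, nat_lit 0x11f0008dc02, nat_lit 0x23e001130008c403, nat_lit 0x1200008e402, nat_lit 0x9000044c007650001e8001bc008fc0003e003b20008ac09, nat_lit 0x244001140008b403, nat_lit 0x123001dc802, nat_lit 0x246001140008bc03, nat_lit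 0x246003b38008a000eca00041003af00021c07, nat_lit 0x12400090c02, nat_lit 0x125001e1002, nat_lit 0x93801, nat_lit 0x12900093402, nat_lit 0x12a001dd802, nat_lit 0x254001160008bc03, nat_lit 0x254003b48008bc03, nat_lit 0x79b00117000890008620022500117801e6807, nat_lit 0x12c001e1802, nat_lit 0x258001160008c403, nat_lit 0x258003b48008c403, nat_lit 0x258001160008900085e004250000280005c07, nat_lit 0x12e00095c02, nat_lit 0x12f00096c02, nat_lit 0x978004aa0079d0012a00097c05, nat_lit 0x25e003c300091000ecc00245003c380097c07, nat_lit 0x9800045c007650001e801d5400e9c007560022d001d7009, nat_lit 0x3d001eb802, nat_lit 0x98800ed600241003c2801db805, nat_lit 0x13200098402, nat_lit 0x9900045c002240021800004c000820075e003b8001de009, nat_lit 0x4b400769001138008f400f6c00264003b5801dd008, nat_lit 0x3dc001ea002, nat_lit 0x3dc00096802, nat_lit 0xf44007a5003be801ed800f6a007af003ae8000f008, nat_lit 0x781003df8000f403,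 nat_lit 0x3df0008c002, nat_lit 0x3df001e8002, nat_lit 0x3df001db402, nat_lit 0x3e00008f802, nat_lit 0x3e0001dfc02, nat_lit 0x1ec400f68007b7003bc801dc4000b40074f000258001ec09, nat_lit 0x79e003e2001d900045a00259003d280112407, nat_lit 0x13300098c02, nat_lit 0x9980045c0022b003c2001e0c05, nat_lit 0x1340008c8004480047d002180008940045e00261003d78001f40a, nat_lit 0x3b1801f5002, nat_lit 0x208000a0007540001e001d9000eca00012002188008940046600269003eb0001c80007c007640011580094411, nat_lit 0x8d00044c00224000098000480086200225001198009a400fac000720001f000048008fa0001300020801d7811, nat_lit 0x9b001, nat_lit 0x137001ec802, nat_lit 0x1380009a402, nat_lit 0x1390009ac02, nat_lit 0x13a001dc402, nat_lit 0x9d000ef0007b6001320008b800eca00041003af001f9009, nat_lit 0x3f38009d000fb6007e4003f3001f94000b40043b0001980019c0a, nat_lit 0x1d800ebc007e4003f3001f9400ebe00040000090011f00044a002270011a801f6c00fc8007e9000330001a411,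 nat_lit 0x9d800468007c8003aa80013405, nat_lit 0x9e000ee2007da0013a801fa405, nat_lit 0x9e80046c0023d003bd80012c05, nat_lit 0x27e003b980091403, nat_lit 0x27e0011b0008ec03, nat_lit 0x1400009f402, nat_lit 0xa0000ee6007c60001e8001bc008fc0003e003e380090c09, nat_lit 0x141001f4802, nat_lit 0xa0800f0400785003b70009bc05, nat_lit 0xa0800470002260011580092c05, nat_lit 0xa2001, nat_lit 0x145000a1402, nat_lit 0x146000a1c02, nat_lit 0x148001fd002, nat_lit 0x290003bb80096403, nat_lit 0x2900011d001f2003, nat_lit 0xa4000f7a00786003e780007000008004250000080002c09, nat_lit 0x149000a3c02, nat_lit 0x14a001ed802, nat_lit 0x294003bd801d3403, nat_lit 0x294003bc8009dc00fda00752002228000c007, nat_lit 0x298003c280093403, nat_lit 0xa6801, nat_lit 0x29a003c280093c03, nat_lit 0x14e000a6402, nat_lit 0x29c003c280094c03, nat_lit 0x14f001fe002, nat_lit 0xa8801, nat_lit 0x153000a8402, nat_lit 0x154001fc802, nat_lit 0x2a80012200091c03,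 nat_lit 0x156000aac02, nat_lit 0xab800f1200281003fc801e3805, nat_lit 0x158001e3402, nat_lit 0xac80048c00243003fc001fdc05, nat_lit 0x15c0020b002, nat_lit 0x2ba0012500093403, nat_lit 0x2bc0012500093c03, nat_lit 0x2bc003c8800a6c03, nat_lit 0x2be0012500094c03, nat_lit 0x2be003c8800a7403, nat_lit 0xb0001, nat_lit 0x2c00012600093c03, nat_lit 0x2c6003c980094c03, nat_lit 0x167000b3402, nat_lit 0x169000b4402, nat_lit 0xb5801, nat_lit 0xb60004ac00259003d28000580002a0004900232801e9009, nat_lit 0x1e9c005b20084b003cf800aac05, nat_lit 0xb68004b00025f003d6801ee8005220080d0021f8000ec09, nat_lit 0x4f40027f003fa801ef4004b2002db004278011c008, nat_lit 0x4280009e802, nat_lit 0x428001fc402, nat_lit 0x7a0042a001d6c03, nat_lit 0x270010ac007cd0042b80027405, nat_lit 0x170000b7402, nat_lit 0x2e00012e001dd800474002410014d8020e007, nat_lit 0xb9001, nat_lit 0x2e4003d5000b9403, nat_lit 0x2e4003d6800b9403, nat_lit 0x4410000580203000520007bb003d680217807,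 nat_lit 0x430002190008740005b003b80009e400fde00066000190021940a, nat_lit 0x5c4002e50043180219c010c60086600431000b9008, nat_lit 0x434000b8802, nat_lit 0x147001eec00f540086a003d50021a800f560025e0012a800b4c0a, nat_lit 0x2e6003d800215c03, nat_lit 0xb98004c00078a003c68011dc05, nat_lit 0x2ec003d98009ac03, nat_lit 0xbb801, nat_lit 0x2ee003d98009b403, nat_lit 0x178000bac02, nat_lit 0x179000bb402, nat_lit 0x2f2003d98009cc03, nat_lit 0x2f8003e9800a2403, nat_lit 0x85a0042e8020e40053400783001448021f807, nat_lit 0x17d000bdc02, nat_lit 0x2fc003e9800a3403, nat_lit 0x180000bfc02, nat_lit 0xc0000faa0007c003d7000ba405, nat_lit 0x306003ee8009bc03, nat_lit 0x30a003ee8009cc03, nat_lit 0x187000c2402, nat_lit 0x30e0043b000bb8004c400798003cb800a4c07, nat_lit 0x312003ef800bcc03, nat_lit 0x312001370009cc03, nat_lit 0x18b000c5402, nat_lit 0xc68004f000771003ed0008d00044c002240023e80004c000820075e003b8001de000f6c0026400133800bdc11,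 nat_lit 0x120800fd60006800033801fb800636008990017b001fe809, nat_lit 0x310003fe0022680012c0006c0001e001d900044e0023d003db000bd40b, nat_lit 0x44e000c4002, nat_lit 0x17d001fe801134004820003b00010000ec80022b00128800b2c0a, nat_lit 0x2e8003da000bd40113e007df00131001dac0047a007b6003da801ebc0b, nat_lit 0x889004518001ec03, nat_lit 0x451000ba002, nat_lit 0x452000c0002, nat_lit 0x88600452801d8003, nat_lit 0x455000bf802, nat_lit 0x268000f80007b004548009a0004de0089e0017a001ed400f60007cd0003d001d74008b6007570002e80022c11, nat_lit 0x16500094000edc00269004560001c80007c00764001198009c40a, nat_lit 0x3160045800228003, nat_lit 0x459000c5802, nat_lit 0x45900225c02, nat_lit 0x20000eb20008b0045700026800fa8007e00045a00220c09, nat_lit 0x1c0000e600761003e68001e8000940004b003ae80116c00eae0005d000458022b8001340007c0002500013c11, nat_lit 0x23000eb0008ba000380001cc00fae00268003d9000bac09, nat_lit 0xa1000fa4002fb0045a8009c000f64002eb0045e0011e009,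 nat_lit 0x14b001ed800f6a008a60002500013c00eb20008b0045f0020080a, nat_lit 0x18e0020c002, nat_lit 0xc7000fec007f9003c7000ae405, nat_lit 0x31e003f9800aac010980025c003bb000a4c07, nat_lit 0x322003fc800a8403, nat_lit 0xc9801, nat_lit 0x32600141000a2403, nat_lit 0x326003fd800be403, nat_lit 0x88b001370009c401168002fa003fd00232807, nat_lit 0xca000ff6002f70045c00020000eb20008d0045e8021e009, nat_lit 0x618007dd003d9000bc4011a4003280014100200008, nat_lit 0x46a000c3002, nat_lit 0x32a00141000a3403, nat_lit 0x32c00143000a2403, nat_lit 0x19800236802, nat_lit 0x33000144000a3403, nat_lit 0x33000400800a3403, nat_lit 0x199000cbc02, nat_lit 0x33200466000c9800ffe002bd0041b800b2407, nat_lit 0xcd00118000296003db000bd405, nat_lit 0x1a0000cec02, nat_lit 0xd000101c008c60018f00201805, nat_lit 0x34200149001e5800f32002670017c80233807, nat_lit 0xd100052400291004750023a405, nat_lit 0xd200053000240001130008ac00f08002990040b800b0c09,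 nat_lit 0x34a0040b800b0403, nat_lit 0x1a6000d2402, nat_lit 0x1a8000d3c02, nat_lit 0x3500040d800938004540022d0012a800b4c07, nat_lit 0x47b0023e4005a400797003dd801eac010d60025e0012e800b7c0a, nat_lit 0xcf8010da002d2003ce80095000f7800796001698023e009, nat_lit 0xb70004b800255003ce001e5c00f7a0025d0016f8023e809, nat_lit 0xd480103a0034900478800b080102c0081c0040f800b3c09, nat_lit 0x3540014f000a8403, nat_lit 0x3560014f000a8c03, nat_lit 0x35600410800c9403, nat_lit 0xd6001, nat_lit 0x35800150000a8c03, nat_lit 0x1af00242802, nat_lit 0x35e00411800a9c03, nat_lit 0x843001290008a800452002430015380243807, nat_lit 0x1b0000d7402, nat_lit 0xd880054800242001140008ac004a2007d80004100014000ea80003c003b20008a400ece007720042900025411, nat_lit 0x36600154000aac010980025c0012a800b4c07, nat_lit 0x1b4000d9c02, nat_lit 0xdb001, nat_lit 0x1b7000dac02, nat_lit 0x36e00426000b8403, nat_lit 0xdc801, nat_lit 0x1ba000dc402,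 nat_lit 0x37400156001fc8004fc002810019280241807, nat_lit 0x37600416800adc03, nat_lit 0x378004178011dc010e00086f0004e80216407, nat_lit 0x24a0006f0002b000123001f18000240047c002190011f000864004300023e0011f0008fa00431002198011f4008660047d00009801f1c0048e002b1001bc8024a419, nat_lit 0x46200230c00564002b1001bc8024a4012540009c003ad00214c00ee600767003b90021480012a00914001b1000a9012, nat_lit 0x29e00496000ae003, nat_lit 0x83200496801fe003, nat_lit 0x35400497800ad403, nat_lit 0x35600497800adc03, nat_lit 0x497000a7802, nat_lit 0x37600498800c9403, nat_lit 0x4980020b402, nat_lit 0x7f600498000ab803, nat_lit 0x49900240c02, nat_lit 0x49a00241402, nat_lit 0x49a00249002, nat_lit 0x49c00249c02, nat_lit 0x49e001fd802, nat_lit 0x49e0009f002, nat_lit 0x360004a0000ad8004900024500154800da407, nat_lit 0x124400942004a2000c900128c0082800413800c8408, nat_lit 0x4a600248802, nat_lit 0x11c20028c0011c0008dc012900078b003cd000b4c08,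 nat_lit 0x917004a800237403, nat_lit 0x4a800238402, nat_lit 0x4a8000cc002, nat_lit 0x4a800237c02, nat_lit 0x4a900246002, nat_lit 0x12240094b004ad00236c00666008e50016400210008, nat_lit 0x4ae000d7002, nat_lit 0x23cc012be00940004a180253800640007f300155800dac09, nat_lit 0x885004aa0023e003, nat_lit 0x87f004ab0023e003, nat_lit 0xcb8012ac0086c001a08023ac005200028f0043680211c09, nat_lit 0x35a00150002088012bc0083f003ca000b3c07, nat_lit 0x37400415800dac012c0008f300160000b0c07, nat_lit 0x698002980040c000d44012c4002fc003e8800bb408, nat_lit 0x4b6000d3002, nat_lit 0x4b60023d402, nat_lit 0xc10004d40076f00129800b3c012d00035a00412000d9409, nat_lit 0x96a001ba00248003, nat_lit 0x4ba000b080102c0096e00439800c0c06, nat_lit 0x4bb0025d002, nat_lit 0x4bb000dc802, nat_lit 0x25c0010e60026a003d90009880045c0023300135800c0c09, nat_lit 0x37a0015a00092000450007680012b800b5c07, nat_lit 0xde8005680078f00153800d94012e400304003f1000c6409,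 nat_lit 0x4bf00260402, nat_lit 0x37c0041a800b0403, nat_lit 0x37c0015d000af403, nat_lit 0x1bf00217002, nat_lit 0xe000107a003530048080211405, nat_lit 0xe1000588002c70048880243405, nat_lit 0x1c3000e0c02, nat_lit 0xe2001, nat_lit 0x1c500262802, nat_lit 0x1c60025a002, nat_lit 0x260c0063000272001190008a400486002a1001ad80265009, nat_lit 0xe380059c0083a001c080264805, nat_lit 0xe40005a0002540012e800b84010ba0083700162800e0c09, nat_lit 0x39200168001e6c00f1400949003e50001b407, nat_lit 0x1ca0023e002, nat_lit 0x394004ac80236003, nat_lit 0x39400169000950004580023300136800c1c07, nat_lit 0xe58005a800256003bb000a4c00686008ed00466800cbc09, nat_lit 0x8490016a800e5c0134a008e20047280264007, nat_lit 0x390004b300269003, nat_lit 0x4d300265c02, nat_lit 0x1cc0023fc02, nat_lit 0x1cd0023e802, nat_lit 0xcf80101c0089000187000c1c013440099f0047b8026b809, nat_lit 0x9890042d8023fc0135c009b00019f000a3800eee0025f00435001ee80b,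 nat_lit 0x988004d9800a3c03, nat_lit 0x37f004d9800a4c03, nat_lit 0x91f004da800cec03, nat_lit 0x33e004da00216c03, nat_lit 0x891004db0020dc03, nat_lit 0x342004db0020e403, nat_lit 0x987004db800d1403, nat_lit 0x4dc000db802, nat_lit 0x4dc00247402, nat_lit 0x4dd000cf802, nat_lit 0x9b0004dd80220403, nat_lit 0x398004dd0023f403, nat_lit 0x2c4004de000c3803, nat_lit 0x88e004de800b2403, nat_lit 0x34e004df0023b403, nat_lit 0x4e000261402, nat_lit 0x39b004e48021fc03, nat_lit 0x9ca004d680274403, nat_lit 0x382004e6800c1c03, nat_lit 0x384004e6800c2c03, nat_lit 0x386004e68021d803, nat_lit 0x4e6000b1002, nat_lit 0x4e7000c2002, nat_lit 0x4e80023d802, nat_lit 0x8d1004e80023f803, nat_lit 0x8d6004ea000b7803, nat_lit 0x27700131e009d9004f280271c05, nat_lit 0x1336009d9004f280220404, nat_lit 0x4ed00263402, nat_lit 0x9e1004f380097003, nat_lit 0x30a004f380213403, nat_lit 0x7a6004f300277c03, nat_lit 0x33c004f40021d403,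 nat_lit 0x9a8004f580259403, nat_lit 0x391004f58021fc03, nat_lit 0x388004f7801da403, nat_lit 0x9ec004f88020a803, nat_lit 0x36c004f800223403, nat_lit 0x2d8004f980210003, nat_lit 0x4fa000cf002, nat_lit 0x9a4004fb8023e403, nat_lit 0x392004fc80200403, nat_lit 0x9aa004fd8008cc03, nat_lit 0x97b004fe00242403, nat_lit 0x4ff00246c02, nat_lit 0x50000212c02, nat_lit 0x502000cb802, nat_lit 0x2860050300267403, nat_lit 0x38d005048009cc03, nat_lit 0x978005058024f803, nat_lit 0x97d0050580232003, nat_lit 0x50900201002, nat_lit 0x38e0050a80225003, nat_lit 0x50b000b0802, nat_lit 0x50c0025c002, nat_lit 0x50e00266402, nat_lit 0x87d0050680270803, nat_lit 0x9c40051200224803, nat_lit 0x144400a26004e20023b8013a600a0f0040400202c08, nat_lit 0x38b005148000f003, nat_lit 0xa23005148001bc03, nat_lit 0x2cd0051580010c03, nat_lit 0x8920051680121403, nat_lit 0x517001e5402, nat_lit 0x5180021ec02, nat_lit 0x67000884004b180275c01196007fb0017d8022dc08,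 nat_lit 0x51b000ce002, nat_lit 0x66c009580047c0027880119a00a10001ca80268408, nat_lit 0x51d000cd802, nat_lit 0x8d9004aa0021b001404007de0044f00239807, nat_lit 0x28f80147a00a1a00036001f2c00ee600249003c7801e380127400323005108028d0008b80089b001958023640147000314003f08022b0000e4000710045d8001fc19, nat_lit 0x1a30020540102400811003da801ec000f9a00760000390001c4011760007f005200028f80147a00a1a00036001f2c00ee6002490012400090c0126c002b50050f8028c81a, nat_lit 0x3470052180010803, nat_lit 0x7c20052200204c03, nat_lit 0x11280291c02, nat_lit 0x52400004c02, nat_lit 0x755003a680292000866000130001e801d5407, nat_lit 0xa002200029200085e004250000280005c07, nat_lit 0x160022500293003, nat_lit 0x400084e000170052700002800000004240000280007409, nat_lit 0xa4a0022080002c0149e00449005290010f807, nat_lit 0x1ce0000a402, nat_lit 0x3a0001ce0000ac03, nat_lit 0xe8801, nat_lit 0x3a2001ce0000b403, nat_lit 0x1d2000e7c02, nat_lit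 0x1d3000e8402, nat_lit 0x3a6001ce0000bc03, nat_lit 0x1d7000ea402, nat_lit 0x1d8000eac02, nat_lit 0x3b0001cf000e700087a000390022c80296007, nat_lit 0x3b4001d0000e8c03, nat_lit 0x1db00297402, nat_lit 0x3b60052d80295c03, nat_lit 0x1dc0029a802, nat_lit 0x3b8001d1000e9c03, nat_lit 0x3ba0052d800e7000010000070000f80015c07, nat_lit 0x29d001, nat_lit 0x1de000eec02, nat_lit 0xf00014be003b10053480298005, nat_lit 0xf0801, nat_lit 0x1e2000efc02, nat_lit 0xf1800748003a10053400299c05, nat_lit 0xf2801, nat_lit 0x3ca001d4000eb403, nat_lit 0xf30014cc00a6900530000f2405, nat_lit 0xf30007540039e001d0800ecc05, nat_lit 0x3ce001d5000eb403, nat_lit 0x1ea000f4c02, nat_lit 0x3de0053a80015803, nat_lit 0x3e20053c8029d4000ac0001e003a300005407, nat_lit 0x3e30054880118803, nat_lit 0x549000f8402, nat_lit 0x3e4001df000f0403, nat_lit 0x3e6001df000f0c03, nat_lit 0xfa801, nat_lit 0x3ea001e0000f0c03, nat_lit 0x1f6002a5802,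 nat_lit 0x3ec001e0000f1403, nat_lit 0x3ec0053d80298c008aa00748005288001bc07, nat_lit 0x1536003ed0055180121404, nat_lit 0x552002a7402, nat_lit 0xa9e005518011f803, nat_lit 0x4690022b0010e4014a80003f00554002a7807, nat_lit 0xaa0005550011a4008ac000200000f80015407, nat_lit 0xa99005530001c003, nat_lit 0x151e0005500556000f100074800a5700537000f6c08, nat_lit 0x558000f7802, nat_lit 0xf80014f200ab2001ed0029b405, nat_lit 0x1f7002a6002, nat_lit 0x3ee0053e800f1403, nat_lit 0x1f8002a9802, nat_lit 0x3f0001e1000f1c03, nat_lit 0x48c0055d002af401502003cf00545800f4407, nat_lit 0x1fa000fcc02, nat_lit 0x1fb002ab402, nat_lit 0xfe80150a003d10055f001230000e00045f0003c802afc09, nat_lit 0x1fe000fec02, nat_lit 0x3fe00544800f5c03, nat_lit 0x3fe00543800fe403, nat_lit 0x400001e8002a280079c003cd001ff802b2407, nat_lit 0x100801, nat_lit 0x20300101402, nat_lit 0x20500102402, nat_lit 0x206002b3002, nat_lit 0x40e001ec0029c0014e6003c9001fc802b2807,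 nat_lit 0x1040007b8003ba00535000f640081e00ad70056480103409, nat_lit 0xa77001ee801044015b200ad500200002b3807, nat_lit 0x104801, nat_lit 0x412001f0000f8c03, nat_lit 0x4120054a00118c03, nat_lit 0x20b002a4400028000040021100000400e8a00015005480010540a, nat_lit 0x1880085a00a900020b802b8c05, nat_lit 0x10600155e0045f0003c801230000e000aae0054c800fd409, nat_lit 0x10700156e0041900573802b0405, nat_lit 0x41c0055c800f10014be003af001e980101c07, nat_lit 0xae800575802b4403, nat_lit 0xad100576000fc8014fa003bf001f480106c07, nat_lit 0x11980155800a7f001f480106c015dc004060054600102409, nat_lit 0x2b4c015e00046600556000f10007480039c0021e8000d409, nat_lit 0x3500579001028007a800a6500541000ff407, nat_lit 0x2bd001, nat_lit 0x107801586000540000f00009400048007460000a8010b000048007460000a8010b000048004280001280018c11, nat_lit 0x57080005000e8e0001f0002a802b080083e00af90003100009000852007460000200108800840004220000080003c12,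 nat_lit 0xade0057d8000d403, nat_lit 0xaf70057d002b7403, nat_lit 0x57e002a4402, nat_lit 0x57e00105402, nat_lit 0xac60057f802ad403, nat_lit 0xac4005828029b003, nat_lit 0x402005838029bc03, nat_lit 0x584002b6802, nat_lit 0x57c8001880089c00057005850000a000010000070000f8001540a, nat_lit 0xac300586002be403, nat_lit 0x15c800b0e0020f802c3404, nat_lit 0xaad00588002c0803, nat_lit 0x3c500589802c0403, nat_lit 0x3a50058a80111c03, nat_lit 0x1ce802c5c02]
theorem st0 : band (steps F IV RT base st0_l 528) (Nat.beq (Nat.add 528 (llen st0_l)) 1421) = true := by decide +kernel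

theorem rot1_1 : T.rot 1 [6] (sel (ones 224) ip1 1) = true := by decide +kernel

theorem rot1_1r : band (Rule.ok (2 * 0) EX RL ⟨1 :: [6], [], 26, false⟩) (lall (memL L) [6]) = true := by decide +kernel

theorem rot1_2 : T.rot 1 [1, 1] (sel (ones 224) ip1 2) = true := by decide +kernel

theorem rot1_2r : band (Rule.ok (2 * 0) EX RL ⟨1 :: [1, 1], [], 15, true⟩) (lall (memL L) [1, 1]) = true := by decide +kernel

theorem rot1_3 : T.rot 1 [8, 6, 3] (sel (ones 224) ip1 3) = true := by decide +kernel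

theorem rot1_3r : band (Rule.ok (2 * 0) EX RL ⟨1 :: [8, 6, 3], [0], 0, true⟩) (lall (memL L) [8, 6, 3]) = true := by decide +kernel

theorem rot1_4 : T.rot 1 [3, 6, 8] (sel (ones 224) ip1 4) = true := by decide +kernel

theorem rot1_4r : band (Rule.ok (2 * 0) EX RL ⟨1 :: [3, 6, 8], [4, 0], 0, false⟩) (lall (memL L) [3, 6, 8]) = true := by decide +kernel

theorem rot1_5 : T.rot 1 [10, 1, 5] (sel (ones 224) ip1 5) = true := by decide +kernel

theorem rot1_5r : band (Rule.ok (2 * 0) EX RL ⟨1 :: [10, 1, 5], [], 22, true⟩) (lall (memL L) [10, 1, 5]) = true := by decide +kernel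

theorem rot1_6 : T.rot 1 [5, 1, 10] (sel (ones 224) ip1 6) = true := by decide +kernel

theorem rot1_6r : band (Rule.ok (2 * 0) EX RL ⟨1 :: [5, 1, 10], [8, 0], 22, true⟩) (lall (memL L) [5, 1, 10]) = true := by decide +kernel

theorem rot1_7 : T.rot 1 [4, 1, 9, 6, 9] (sel (ones 224) ip1 7) = true := by decide +kernel

theorem rot1_7r : band (Rule.ok (2 * 0) EX RL ⟨1 :: [4, 1, 9, 6, 9], [0, 6, 0], 4, true⟩) (lall (memL L) [4, 1, 9, 6, 9]) = true := by decide +kernel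

theorem rot1_8 : T.rot 1 [9, 6, 9, 1, 4] (sel (ones 224) ip1 8) = true := by decide +kernel

theorem rot1_8r : band (Rule.ok (2 * 0) EX RL ⟨1 :: [9, 6, 9, 1, 4], [0], 4, true⟩) (lall (memL L) [9, 6, 9, 1, 4]) = true := by decide +kernel

theorem rot1_9 : T.rot 1 [4, 6, 9, 6, 4] (sel (ones 224) ip1 9) = true := by decide +kernel

theorem rot1_9r : band (Rule.ok (2 * 0) EX RL ⟨1 :: [4, 6, 9, 6, 4], [6, 0], 4, false⟩) (lall (memL L) [4, 6, 9, 6, 4]) = true := by decide +kernel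

theorem rot1_10 : T.rot 1 [2, 8, 2, 6, 7, 3, 7] (sel (ones 224) ip1 10) = true := by decide +kernel

theorem rot1_10r : band (Rule.ok (2 * 0) EX RL ⟨1 :: [2, 8, 2, 6, 7, 3, 7], [2, 5, 2, 0], 3, true⟩) (lall (memL L) [2, 8, 2, 6, 7, 3, 7]) = true := by decide +kernel

theorem rot1_11 : T.rot 1 [7, 3, 7, 6, 2, 8, 2] (sel (ones 224) ip1 11) = true := by decide +kernel

theorem rot1_11r : band (Rule.ok (2 * 0) EX RL ⟨1 :: [7, 3, 7, 6, 2, 8, 2], [0], 3, false⟩) (lall (memL L) [7, 3, 7, 6, 2, 8, 2]) = true := by decide +kernel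

theorem rot1_12 : T.rot 1 [7, 6, 2, 6, 10, 4, 5] (sel (ones 224) ip1 12) = true := by decide +kernel

theorem rot1_12r : band (Rule.ok (2 * 0) EX RL ⟨1 :: [7, 6, 2, 6, 10, 4, 5], [], 25, true⟩) (lall (memL L) [7, 6, 2, 6, 10, 4, 5]) = true := by decide +kernel

theorem rot1_13 : T.rot 1 [7, 1, 2, 6, 10, 9, 5] (sel (ones 224) ip1 13) = true := by decide +kernel

theorem rot1_13r : band (Rule.ok (2 * 0) EX RL ⟨1 :: [7, 1, 2, 6, 10, 9, 5], [8, 6, 9], 25, false⟩) (lall (memL L) [7, 1, 2, 6, 10, 9, 5]) = true := by decide +kernel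

theorem rot1_14 : T.rot 1 [2, 6, 10, 9, 5, 1, 7] (sel (ones 224) ip1 14) = true := by decide +kernel

theorem rot1_14r : band (Rule.ok (2 * 0) EX RL ⟨1 :: [2, 6, 10, 9, 5, 1, 7], [1, 2, 0], 25, false⟩) (lall (memL L) [2, 6, 10, 9, 5, 1, 7]) = true := by decide +kernel

theorem rot1_15 : T.rot 1 [2, 1, 2, 1, 7, 6, 7, 6, 7] (sel (ones 224) ip1 15) = true := by decide +kernel

theorem rot1_15r : band (Rule.ok (2 * 0) EX RL ⟨1 :: [2, 1, 2, 1, 7, 6, 7, 6, 7], [0, 2, 0, 2, 0], 2, true⟩) (lall (memL L) [2, 1, 2, 1, 7, 6, 7, 6, 7]) = true := by decide +kernel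

theorem rot1_16 : T.rot 1 [2, 1, 7, 6, 7, 6, 7, 1, 2] (sel (ones 224) ip1 16) = true := by decide +kernel

theorem rot1_16r : band (Rule.ok (2 * 0) EX RL ⟨1 :: [2, 1, 7, 6, 7, 6, 7, 1, 2], [0, 2, 0], 2, true⟩) (lall (memL L) [2, 1, 7, 6, 7, 6, 7, 1, 2]) = true := by decide +kernel

theorem rot1_17 : T.rot 1 [7, 6, 7, 6, 7, 1, 2, 1, 2] (sel (ones 224) ip1 17) = true := by decide +kernel

theorem rot1_17r : band (Rule.ok (2 * 0) EX RL ⟨1 :: [7, 6, 7, 6, 7, 1, 2, 1, 2], [0], 2, true⟩) (lall (memL L) [7, 6, 7, 6, 7, 1, 2, 1, 2]) = true := by decide +kernel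

theorem rot1_18 : T.rot 1 [2, 6, 7, 6, 7, 6, 2, 1, 2] (sel (ones 224) ip1 18) = true := by decide +kernel

theorem rot1_18r : band (Rule.ok (2 * 0) EX RL ⟨1 :: [2, 6, 7, 6, 7, 6, 2, 1, 2], [2, 0], 2, false⟩) (lall (memL L) [2, 6, 7, 6, 7, 6, 2, 1, 2]) = true := by decide +kernel

theorem rot1_19 : T.rot 1 [9, 1, 9, 2, 4, 6, 4, 6, 7] (sel (ones 224) ip1 19) = true := by decide +kernel

theorem rot1_19r : band (Rule.ok (2 * 0) EX RL ⟨1 :: [9, 1, 9, 2, 4, 6, 4, 6, 7], [2], 7, true⟩) (lall (memL L) [9, 1, 9, 2, 4, 6, 4, 6, 7]) = true := by decide +kernel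

theorem rot1_20 : T.rot 1 [9, 2, 4, 6, 4, 6, 7, 1, 9] (sel (ones 224) ip1 20) = true := by decide +kernel

theorem rot1_20r : band (Rule.ok (2 * 0) EX RL ⟨1 :: [9, 2, 4, 6, 4, 6, 7, 1, 9], [2, 1, 6], 7, true⟩) (lall (memL L) [9, 2, 4, 6, 4, 6, 7, 1, 9]) = true := by decide +kernel

theorem rot1_21 : T.rot 1 [9, 7, 4, 6, 4, 6, 2, 1, 9] (sel (ones 224) ip1 21) = true := by decide +kernel

theorem rot1_21r : band (Rule.ok (2 * 0) EX RL ⟨1 :: [9, 7, 4, 6, 4, 6, 2, 1, 9], [1, 6], 7, false⟩) (lall (memL L) [9, 7, 4, 6, 4, 6, 2, 1, 9]) = true := by decide +kernel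

theorem rot1_22 : T.rot 1 [9, 1, 9, 3, 4, 6, 4, 6, 8] (sel (ones 224) ip1 22) = true := by decide +kernel

theorem rot1_22r : band (Rule.ok (2 * 0) EX RL ⟨1 :: [9, 1, 9, 3, 4, 6, 4, 6, 8], [4], 8, true⟩) (lall (memL L) [9, 1, 9, 3, 4, 6, 4, 6, 8]) = true := by decide +kernel

theorem rot1_23 : T.rot 1 [9, 3, 4, 6, 4, 6, 8, 1, 9] (sel (ones 224) ip1 23) = true := by decide +kernel

theorem rot1_23r : band (Rule.ok (2 * 0) EX RL ⟨1 :: [9, 3, 4, 6, 4, 6, 8, 1, 9], [4, 1, 6], 8, true⟩) (lall (memL L) [9, 3, 4, 6, 4, 6, 8, 1, 9]) = true := by decide +kernel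

theorem rot1_24 : T.rot 1 [9, 1, 9, 8, 4, 6, 4, 6, 3] (sel (ones 224) ip1 24) = true := by decide +kernel

theorem rot1_24r : band (Rule.ok (2 * 0) EX RL ⟨1 :: [9, 1, 9, 8, 4, 6, 4, 6, 3], [], 8, false⟩) (lall (memL L) [9, 1, 9, 8, 4, 6, 4, 6, 3]) = true := by decide +kernel

theorem rot1_25 : T.rot 1 [9, 8, 4, 6, 4, 6, 3, 1, 9] (sel (ones 224) ip1 25) = true := by decide +kernel

theorem rot1_25r : band (Rule.ok (2 * 0) EX RL ⟨1 :: [9, 8, 4, 6, 4, 6, 3, 1, 9], [1, 6], 8, false⟩) (lall (memL L) [9, 8, 4, 6, 4, 6, 3, 1, 9]) = true := by decide +kernel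

theorem rot1_26 : T.rot 1 [7, 4, 7, 4, 6, 2, 6, 2, 1, 4] (sel (ones 224) ip1 26) = true := by decide +kernel

theorem rot1_26r : band (Rule.ok (2 * 0) EX RL ⟨1 :: [7, 4, 7, 4, 6, 2, 6, 2, 1, 4], [7], 20, true⟩) (lall (memL L) [7, 4, 7, 4, 6, 2, 6, 2, 1, 4]) = true := by decide +kernel

theorem rot1_27 : T.rot 1 [4, 1, 7, 4, 7, 4, 6, 2, 6, 2] (sel (ones 224) ip1 27) = true := by decide +kernel

theorem rot1_27r : band (Rule.ok (2 * 0) EX RL ⟨1 :: [4, 1, 7, 4, 7, 4, 6, 2, 6, 2], [0], 20, true⟩) (lall (memL L) [4, 1, 7, 4, 7, 4, 6, 2, 6, 2]) = true := by decide +kernel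

theorem rot1_28 : T.rot 1 [7, 1, 9, 2, 9, 2, 6, 9, 6, 7] (sel (ones 224) ip1 28) = true := by decide +kernel

theorem rot1_28r : band (Rule.ok (2 * 0) EX RL ⟨1 :: [7, 1, 9, 2, 9, 2, 6, 9, 6, 7], [0, 2], 20, false⟩) (lall (memL L) [7, 1, 9, 2, 9, 2, 6, 9, 6, 7]) = true := by decide +kernel

theorem rot1_29 : T.rot 1 [9, 2, 9, 2, 6, 9, 6, 7, 1, 7] (sel (ones 224) ip1 29) = true := by decide +kernel

theorem rot1_29r : band (Rule.ok (2 * 0) EX RL ⟨1 :: [9, 2, 9, 2, 6, 9, 6, 7, 1, 7], [0, 2, 1, 2], 20, false⟩) (lall (memL L) [9, 2, 9, 2, 6, 9, 6, 7, 1, 7]) = true := by decide +kernel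

theorem rot1_30 : T.rot 1 [2, 9, 6, 4, 7, 6, 7, 4, 7, 6, 7, 1, 2, 1, 2, 9, 2] (sel (ones 224) ip1 30) = true := by decide +kernel

theorem rot1_30r : band (Rule.ok (2 * 0) EX RL ⟨1 :: [2, 9, 6, 4, 7, 6, 7, 4, 7, 6, 7, 1, 2, 1, 2, 9, 2], [3, 1, 3, 6, 3], 9, false⟩) (lall (memL L) [2, 9, 6, 4, 7, 6, 7, 4, 7, 6, 7, 1, 2, 1, 2, 9, 2]) = true := by decide +kernel

theorem rot1_31 : T.rot 1 [2, 9, 2, 4, 7, 6, 7, 4, 7, 6, 7, 7, 2, 1, 2, 9, 2] (sel (ones 224) ip1 31) = true := by decide +kernel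

theorem rot1_31r : band (Rule.ok (2 * 0) EX RL ⟨1 :: [2, 9, 2, 4, 7, 6, 7, 4, 7, 6, 7, 7, 2, 1, 2, 9, 2], [1, 3, 6, 3], 10, true⟩) (lall (memL L) [2, 9, 2, 4, 7, 6, 7, 4, 7, 6, 7, 7, 2, 1, 2, 9, 2]) = true := by decide +kernel

theorem rot1_32 : T.rot 1 [2, 9, 7, 4, 7, 6, 7, 4, 7, 6, 7, 2, 2, 1, 2, 9, 2] (sel (ones 224) ip1 32) = true := by decide +kernel

theorem rot1_32r : band (Rule.ok (2 * 0) EX RL ⟨1 :: [2, 9, 7, 4, 7, 6, 7, 4, 7, 6, 7, 2, 2, 1, 2, 9, 2], [3, 1, 3, 6, 3], 10, false⟩) (lall (memL L) [2, 9, 7, 4, 7, 6, 7, 4, 7, 6, 7, 2, 2, 1, 2, 9, 2]) = true := by decide +kernel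

theorem rot1_33 : T.rot 1 [2, 9, 2, 1, 2, 9, 8, 4, 7, 6, 7, 4, 7, 6, 7, 3, 2] (sel (ones 224) ip1 33) = true := by decide +kernel

theorem rot1_33r : band (Rule.ok (2 * 0) EX RL ⟨1 :: [2, 9, 2, 1, 2, 9, 8, 4, 7, 6, 7, 4, 7, 6, 7, 3, 2], [3], 11, false⟩) (lall (memL L) [2, 9, 2, 1, 2, 9, 8, 4, 7, 6, 7, 4, 7, 6, 7, 3, 2]) = true := by decide +kernel

theorem rot1_34 : T.rot 1 [2, 9, 8, 4, 7, 6, 7, 4, 7, 6, 7, 3, 2, 1, 2, 9, 2] (sel (ones 224) ip1 34) = true := by decide +kernel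

theorem rot1_34r : band (Rule.ok (2 * 0) EX RL ⟨1 :: [2, 9, 8, 4, 7, 6, 7, 4, 7, 6, 7, 3, 2, 1, 2, 9, 2], [3, 1, 3, 6, 3], 11, false⟩) (lall (memL L) [2, 9, 8, 4, 7, 6, 7, 4, 7, 6, 7, 3, 2, 1, 2, 9, 2]) = true := by decide +kernel

theorem rot1_35 : T.rot 1 [2, 9, 7, 6, 7, 6, 9, 7, 9, 7, 6, 9, 4, 4, 1, 2, 4, 2, 4, 1, 2] (sel (ones 224) ip1 35) = true := by decide +kernel

theorem rot1_35r : band (Rule.ok (2 * 0) EX RL ⟨1 :: [2, 9, 7, 6, 7, 6, 9, 7, 9, 7, 6, 9, 4, 4, 1, 2, 4, 2, 4, 1, 2], [2, 0], 13, true⟩) (lall (memL L) [2, 9, 7, 6, 7, 6, 9, 7, 9, 7, 6, 9, 4, 4, 1, 2, 4, 2, 4, 1, 2]) = true := by decide +kernel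

theorem rot1_36 : T.rot 1 [2, 4, 7, 6, 7, 6, 9, 7, 9, 7, 6, 9, 9, 4, 1, 2, 4, 2, 4, 1, 2] (sel (ones 224) ip1 36) = true := by decide +kernel

theorem rot1_36r : band (Rule.ok (2 * 0) EX RL ⟨1 :: [2, 4, 7, 6, 7, 6, 9, 7, 9, 7, 6, 9, 9, 4, 1, 2, 4, 2, 4, 1, 2], [6, 2, 0], 13, false⟩) (lall (memL L) [2, 4, 7, 6, 7, 6, 9, 7, 9, 7, 6, 9, 9, 4, 1, 2, 4, 2, 4, 1, 2]) = true := by decide +kernel

theorem cov1 : T.cover 1 [(sel (ones 224) ip1 1), (sel (ones 224) ip1 2), (sel (ones 224) ip1 3), (sel (ones 224) ip1 4), (sel (ones 224) ip1 5), (sel (ones 224) ip1 6), (sel (ones 224) ip1 7), (sel (ones 224) ip1 8), (sel (ones 224) ip1 9), (sel (ones 224) ip1 10), (sel (ones 224) ip1 11), (sel (ones 224) ip1 12), (sel (ones 224) ip1 13), (sel (ones 224) ip1 14), (sel (ones 224) ip1 15), (sel (ones 224) ip1 16), (sel (ones 224) ip1 17), (sel (ones 224) ip1 18), (sel (ones 224) ip1 19), (sel (ones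 224) ip1 20), (sel (ones 224) ip1 21), (sel (ones 224) ip1 22), (sel (ones 224) ip1 23), (sel (ones 224) ip1 24), (sel (ones 224) ip1 25), (sel (ones 224) ip1 26), (sel (ones 224) ip1 27), (sel (ones 224) ip1 28), (sel (ones 224) ip1 29), (sel (ones 224) ip1 30), (sel (ones 224) ip1 31), (sel (ones 224) ip1 32), (sel (ones 224) ip1 33), (sel (ones 224) ip1 34), (sel (ones 224) ip1 35), (sel (ones 224) ip1 36), 1] = true := by decide +kernel

theorem tl1 : T.treeLt 8 1 = true := by decide +kernel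

theorem rot2_1 : T.rot 2 [7] (sel (ones 224) ip2 1) = true := by decide +kernel

theorem rot2_1r : band (Rule.ok (2 * 0) EX RL ⟨2 :: [7], [], 26, false⟩) (lall (memL L) [7]) = true := by decide +kernel

theorem rot2_2 : T.rot 2 [2, 2] (sel (ones 224) ip2 2) = true := by decide +kernel

theorem rot2_2r : band (Rule.ok (2 * 0) EX RL ⟨2 :: [2, 2], [], 16, true⟩) (lall (memL L) [2, 2]) = true := by decide +kernel

theorem rot2_3 : T.rot 2 [3, 2, 8, 7, 8] (sel (ones 224) ip2 3) = true := by decide +kernel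

theorem rot2_3r : band (Rule.ok (2 * 0) EX RL ⟨2 :: [3, 2, 8, 7, 8], [2, 4, 2], 1, true⟩) (lall (memL L) [3, 2, 8, 7, 8]) = true := by decide +kernel

theorem rot2_4 : T.rot 2 [8, 7, 8, 2, 3] (sel (ones 224) ip2 4) = true := by decide +kernel

theorem rot2_4r : band (Rule.ok (2 * 0) EX RL ⟨2 :: [8, 7, 8, 2, 3], [2], 1, true⟩) (lall (memL L) [8, 7, 8, 2, 3]) = true := by decide +kernel

theorem rot2_5 : T.rot 2 [3, 7, 8, 7, 3] (sel (ones 224) ip2 5) = true := by decide +kernel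

theorem rot2_5r : band (Rule.ok (2 * 0) EX RL ⟨2 :: [3, 7, 8, 7, 3], [4, 2], 1, false⟩) (lall (memL L) [3, 7, 8, 7, 3]) = true := by decide +kernel

theorem rot2_6 : T.rot 2 [6, 7, 3, 7, 1, 2, 8] (sel (ones 224) ip2 6) = true := by decide +kernel

theorem rot2_6r : band (Rule.ok (2 * 0) EX RL ⟨2 :: [6, 7, 3, 7, 1, 2, 8], [2], 3, true⟩) (lall (memL L) [6, 7, 3, 7, 1, 2, 8]) = true := by decide +kernel

theorem rot2_7 : T.rot 2 [8, 2, 1, 7, 3, 7, 6] (sel (ones 224) ip2 7) = true := by decide +kernel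

theorem rot2_7r : band (Rule.ok (2 * 0) EX RL ⟨2 :: [8, 2, 1, 7, 3, 7, 6], [0, 2, 5, 2], 3, false⟩) (lall (memL L) [8, 2, 1, 7, 3, 7, 6]) = true := by decide +kernel

theorem rot2_8 : T.rot 2 [1, 7, 3, 7, 6, 2, 8] (sel (ones 224) ip2 8) = true := by decide +kernel

theorem rot2_8r : band (Rule.ok (2 * 0) EX RL ⟨2 :: [1, 7, 3, 7, 6, 2, 8], [0, 2], 3, false⟩) (lall (memL L) [1, 7, 3, 7, 6, 2, 8]) = true := by decide +kernel

theorem rot2_9 : T.rot 2 [5, 3, 9, 8, 4, 8, 10] (sel (ones 224) ip2 9) = true := by decide +kernel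

theorem rot2_9r : band (Rule.ok (2 * 0) EX RL ⟨2 :: [5, 3, 9, 8, 4, 8, 10], [8, 2], 23, true⟩) (lall (memL L) [5, 3, 9, 8, 4, 8, 10]) = true := by decide +kernel

theorem rot2_10 : T.rot 2 [6, 10, 4, 5, 1, 7, 6] (sel (ones 224) ip2 10) = true := by decide +kernel

theorem rot2_10r : band (Rule.ok (2 * 0) EX RL ⟨2 :: [6, 10, 4, 5, 1, 7, 6], [1, 2, 0], 25, true⟩) (lall (memL L) [6, 10, 4, 5, 1, 7, 6]) = true := by decide +kernel

theorem rot2_11 : T.rot 2 [6, 10, 9, 5, 1, 7, 1] (sel (ones 224) ip2 11) = true := by decide +kernel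

theorem rot2_11r : band (Rule.ok (2 * 0) EX RL ⟨2 :: [6, 10, 9, 5, 1, 7, 1], [1, 2], 25, false⟩) (lall (memL L) [6, 10, 9, 5, 1, 7, 1]) = true := by decide +kernel

theorem rot2_12 : T.rot 2 [1, 2, 1, 7, 6, 7, 6, 7, 1] (sel (ones 224) ip2 12) = true := by decide +kernel

theorem rot2_12r : band (Rule.ok (2 * 0) EX RL ⟨2 :: [1, 2, 1, 7, 6, 7, 6, 7, 1], [0, 2, 0, 2], 2, true⟩) (lall (memL L) [1, 2, 1, 7, 6, 7, 6, 7, 1]) = true := by decide +kernel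

theorem rot2_13 : T.rot 2 [1, 7, 6, 7, 6, 7, 1, 2, 1] (sel (ones 224) ip2 13) = true := by decide +kernel

theorem rot2_13r : band (Rule.ok (2 * 0) EX RL ⟨2 :: [1, 7, 6, 7, 6, 7, 1, 2, 1], [0, 2], 2, true⟩) (lall (memL L) [1, 7, 6, 7, 6, 7, 1, 2, 1]) = true := by decide +kernel

theorem rot2_14 : T.rot 2 [1, 2, 1, 2, 6, 7, 6, 7, 6] (sel (ones 224) ip2 14) = true := by decide +kernel

theorem rot2_14r : band (Rule.ok (2 * 0) EX RL ⟨2 :: [1, 2, 1, 2, 6, 7, 6, 7, 6], [2, 0, 2, 0, 2], 2, false⟩) (lall (memL L) [1, 2, 1, 2, 6, 7, 6, 7, 6]) = true := by decide +kernel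

theorem rot2_15 : T.rot 2 [1, 2, 6, 7, 6, 7, 6, 2, 1] (sel (ones 224) ip2 15) = true := by decide +kernel

theorem rot2_15r : band (Rule.ok (2 * 0) EX RL ⟨2 :: [1, 2, 6, 7, 6, 7, 6, 2, 1], [2, 0, 2], 2, false⟩) (lall (memL L) [1, 2, 6, 7, 6, 7, 6, 2, 1]) = true := by decide +kernel

theorem rot2_16 : T.rot 2 [6, 7, 6, 7, 6, 2, 1, 2, 1] (sel (ones 224) ip2 16) = true := by decide +kernel

theorem rot2_16r : band (Rule.ok (2 * 0) EX RL ⟨2 :: [6, 7, 6, 7, 6, 2, 1, 2, 1], [2], 2, false⟩) (lall (memL L) [6, 7, 6, 7, 6, 2, 1, 2, 1]) = true := by decide +kernel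

theorem rot2_17 : T.rot 2 [4, 2, 4, 2, 9, 7, 9, 7, 9] (sel (ones 224) ip2 17) = true := by decide +kernel

theorem rot2_17r : band (Rule.ok (2 * 0) EX RL ⟨2 :: [4, 2, 4, 2, 9, 7, 9, 7, 9], [2, 6, 2, 6, 2], 5, true⟩) (lall (memL L) [4, 2, 4, 2, 9, 7, 9, 7, 9]) = true := by decide +kernel

theorem rot2_18 : T.rot 2 [4, 2, 9, 7, 9, 7, 9, 2, 4] (sel (ones 224) ip2 18) = true := by decide +kernel

theorem rot2_18r : band (Rule.ok (2 * 0) EX RL ⟨2 :: [4, 2, 9, 7, 9, 7, 9, 2, 4], [2, 6, 2], 5, true⟩) (lall (memL L) [4, 2, 9, 7, 9, 7, 9, 2, 4]) = true := by decide +kernel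

theorem rot2_19 : T.rot 2 [9, 7, 9, 7, 9, 2, 4, 2, 4] (sel (ones 224) ip2 19) = true := by decide +kernel

theorem rot2_19r : band (Rule.ok (2 * 0) EX RL ⟨2 :: [9, 7, 9, 7, 9, 2, 4, 2, 4], [2], 5, true⟩) (lall (memL L) [9, 7, 9, 7, 9, 2, 4, 2, 4]) = true := by decide +kernel

theorem rot2_20 : T.rot 2 [4, 2, 4, 7, 9, 7, 9, 7, 4] (sel (ones 224) ip2 20) = true := by decide +kernel

theorem rot2_20r : band (Rule.ok (2 * 0) EX RL ⟨2 :: [4, 2, 4, 7, 9, 7, 9, 7, 4], [6, 2, 6, 2], 5, false⟩) (lall (memL L) [4, 2, 4, 7, 9, 7, 9, 7, 4]) = true := by decide +kernel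

theorem rot2_21 : T.rot 2 [4, 7, 9, 7, 9, 7, 4, 2, 4] (sel (ones 224) ip2 21) = true := by decide +kernel

theorem rot2_21r : band (Rule.ok (2 * 0) EX RL ⟨2 :: [4, 7, 9, 7, 9, 7, 4, 2, 4], [6, 2], 5, false⟩) (lall (memL L) [4, 7, 9, 7, 9, 7, 4, 2, 4]) = true := by decide +kernel

theorem rot2_22 : T.rot 2 [8, 2, 9, 7, 3, 7, 3, 4, 8] (sel (ones 224) ip2 22) = true := by decide +kernel

theorem rot2_22r : band (Rule.ok (2 * 0) EX RL ⟨2 :: [8, 2, 9, 7, 3, 7, 3, 4, 8], [2, 5, 2], 14, true⟩) (lall (memL L) [8, 2, 9, 7, 3, 7, 3, 4, 8]) = true := by decide +kernel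

theorem rot2_23 : T.rot 2 [8, 2, 4, 7, 3, 7, 3, 9, 8] (sel (ones 224) ip2 23) = true := by decide +kernel

theorem rot2_23r : band (Rule.ok (2 * 0) EX RL ⟨2 :: [8, 2, 4, 7, 3, 7, 3, 9, 8], [6, 2, 5, 2], 14, false⟩) (lall (memL L) [8, 2, 4, 7, 3, 7, 3, 9, 8]) = true := by decide +kernel

theorem rot2_24 : T.rot 2 [4, 7, 3, 7, 3, 9, 8, 2, 8] (sel (ones 224) ip2 24) = true := by decide +kernel

theorem rot2_24r : band (Rule.ok (2 * 0) EX RL ⟨2 :: [4, 7, 3, 7, 3, 9, 8, 2, 8], [6, 2], 14, false⟩) (lall (memL L) [4, 7, 3, 7, 3, 9, 8, 2, 8]) = true := by decide +kernel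

theorem rot2_25 : T.rot 2 [6, 2, 1, 4, 1, 7, 4, 7, 4, 6] (sel (ones 224) ip2 25) = true := by decide +kernel

theorem rot2_25r : band (Rule.ok (2 * 0) EX RL ⟨2 :: [6, 2, 1, 4, 1, 7, 4, 7, 4, 6], [0, 2, 1, 2], 20, true⟩) (lall (memL L) [6, 2, 1, 4, 1, 7, 4, 7, 4, 6]) = true := by decide +kernel

theorem rot2_26 : T.rot 2 [1, 4, 1, 7, 4, 7, 4, 6, 2, 6] (sel (ones 224) ip2 26) = true := by decide +kernel

theorem rot2_26r : band (Rule.ok (2 * 0) EX RL ⟨2 :: [1, 4, 1, 7, 4, 7, 4, 6, 2, 6], [0, 2], 20, true⟩) (lall (memL L) [1, 4, 1, 7, 4, 7, 4, 6, 2, 6]) = true := by decide +kernel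

theorem rot2_27 : T.rot 2 [9, 2, 6, 9, 6, 7, 1, 7, 1, 9] (sel (ones 224) ip2 27) = true := by decide +kernel

theorem rot2_27r : band (Rule.ok (2 * 0) EX RL ⟨2 :: [9, 2, 6, 9, 6, 7, 1, 7, 1, 9], [7, 1, 2, 7, 2], 20, false⟩) (lall (memL L) [9, 2, 6, 9, 6, 7, 1, 7, 1, 9]) = true := by decide +kernel

theorem rot2_28 : T.rot 2 [6, 9, 6, 7, 1, 7, 1, 9, 2, 9] (sel (ones 224) ip2 28) = true := by decide +kernel

theorem rot2_28r : band (Rule.ok (2 * 0) EX RL ⟨2 :: [6, 9, 6, 7, 1, 7, 1, 9, 2, 9], [7, 1, 2], 20, false⟩) (lall (memL L) [6, 9, 6, 7, 1, 7, 1, 9, 2, 9]) = true := by decide +kernel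

theorem rot2_29 : T.rot 2 [9, 2, 1, 2, 9, 1, 4, 7, 6, 7, 4, 7, 6, 7, 6, 2, 1] (sel (ones 224) ip2 29) = true := by decide +kernel

theorem rot2_29r : band (Rule.ok (2 * 0) EX RL ⟨2 :: [9, 2, 1, 2, 9, 1, 4, 7, 6, 7, 4, 7, 6, 7, 6, 2, 1], [0, 3, 1], 9, true⟩) (lall (memL L) [9, 2, 1, 2, 9, 1, 4, 7, 6, 7, 4, 7, 6, 7, 6, 2, 1]) = true := by decide +kernel

theorem rot2_30 : T.rot 2 [1, 2, 9, 1, 4, 7, 6, 7, 4, 7, 6, 7, 6, 2, 1, 2, 9] (sel (ones 224) ip2 30) = true := by decide +kernel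

theorem rot2_30r : band (Rule.ok (2 * 0) EX RL ⟨2 :: [1, 2, 9, 1, 4, 7, 6, 7, 4, 7, 6, 7, 6, 2, 1, 2, 9], [0, 3, 1, 3, 6], 9, true⟩) (lall (memL L) [1, 2, 9, 1, 4, 7, 6, 7, 4, 7, 6, 7, 6, 2, 1, 2, 9]) = true := by decide +kernel

theorem rot2_31 : T.rot 2 [9, 1, 4, 7, 6, 7, 4, 7, 6, 7, 6, 2, 1, 2, 9, 2, 1] (sel (ones 224) ip2 31) = true := by decide +kernel

theorem rot2_31r : band (Rule.ok (2 * 0) EX RL ⟨2 :: [9, 1, 4, 7, 6, 7, 4, 7, 6, 7, 6, 2, 1, 2, 9, 2, 1], [0, 3, 1, 3, 6, 3, 1], 9, true⟩) (lall (memL L) [9, 1, 4, 7, 6, 7, 4, 7, 6, 7, 6, 2, 1, 2, 9, 2, 1]) = true := by decide +kernel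

theorem rot2_32 : T.rot 2 [1, 2, 9, 6, 4, 7, 6, 7, 4, 7, 6, 7, 1, 2, 1, 2, 9] (sel (ones 224) ip2 32) = true := by decide +kernel

theorem rot2_32r : band (Rule.ok (2 * 0) EX RL ⟨2 :: [1, 2, 9, 6, 4, 7, 6, 7, 4, 7, 6, 7, 1, 2, 1, 2, 9], [3, 1, 3, 6], 9, false⟩) (lall (memL L) [1, 2, 9, 6, 4, 7, 6, 7, 4, 7, 6, 7, 1, 2, 1, 2, 9]) = true := by decide +kernel

theorem rot2_33 : T.rot 2 [9, 6, 4, 7, 6, 7, 4, 7, 6, 7, 1, 2, 1, 2, 9, 2, 1] (sel (ones 224) ip2 33) = true := by decide +kernel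

theorem rot2_33r : band (Rule.ok (2 * 0) EX RL ⟨2 :: [9, 6, 4, 7, 6, 7, 4, 7, 6, 7, 1, 2, 1, 2, 9, 2, 1], [3, 1, 3, 6, 3, 1], 9, false⟩) (lall (memL L) [9, 6, 4, 7, 6, 7, 4, 7, 6, 7, 1, 2, 1, 2, 9, 2, 1]) = true := by decide +kernel

theorem rot2_34 : T.rot 2 [9, 2, 1, 2, 9, 2, 4, 7, 6, 7, 4, 7, 6, 7, 7, 2, 1] (sel (ones 224) ip2 34) = true := by decide +kernel

theorem rot2_34r : band (Rule.ok (2 * 0) EX RL ⟨2 :: [9, 2, 1, 2, 9, 2, 4, 7, 6, 7, 4, 7, 6, 7, 7, 2, 1], [1], 10, true⟩) (lall (memL L) [9, 2, 1, 2, 9, 2, 4, 7, 6, 7, 4, 7, 6, 7, 7, 2, 1]) = true := by decide +kernel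

theorem rot2_35 : T.rot 2 [9, 2, 4, 7, 6, 7, 4, 7, 6, 7, 7, 2, 1, 2, 9, 2, 1] (sel (ones 224) ip2 35) = true := by decide +kernel

theorem rot2_35r : band (Rule.ok (2 * 0) EX RL ⟨2 :: [9, 2, 4, 7, 6, 7, 4, 7, 6, 7, 7, 2, 1, 2, 9, 2, 1], [1, 3, 6, 3, 1], 10, true⟩) (lall (memL L) [9, 2, 4, 7, 6, 7, 4, 7, 6, 7, 7, 2, 1, 2, 9, 2, 1]) = true := by decide +kernel

theorem rot2_36 : T.rot 2 [1, 2, 9, 2, 1, 2, 9, 3, 4, 7, 6, 7, 4, 7, 6, 7, 8] (sel (ones 224) ip2 36) = true := by decide +kernel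

theorem rot2_36r : band (Rule.ok (2 * 0) EX RL ⟨2 :: [1, 2, 9, 2, 1, 2, 9, 3, 4, 7, 6, 7, 4, 7, 6, 7, 8], [4], 11, true⟩) (lall (memL L) [1, 2, 9, 2, 1, 2, 9, 3, 4, 7, 6, 7, 4, 7, 6, 7, 8]) = true := by decide +kernel

theorem rot2_37 : T.rot 2 [9, 2, 1, 2, 9, 3, 4, 7, 6, 7, 4, 7, 6, 7, 8, 2, 1] (sel (ones 224) ip2 37) = true := by decide +kernel

theorem rot2_37r : band (Rule.ok (2 * 0) EX RL ⟨2 :: [9, 2, 1, 2, 9, 3, 4, 7, 6, 7, 4, 7, 6, 7, 8, 2, 1], [4, 3, 1], 11, true⟩) (lall (memL L) [9, 2, 1, 2, 9, 3, 4, 7, 6, 7, 4, 7, 6, 7, 8, 2, 1]) = true := by decide +kernel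

theorem rot2_38 : T.rot 2 [1, 2, 9, 3, 4, 7, 6, 7, 4, 7, 6, 7, 8, 2, 1, 2, 9] (sel (ones 224) ip2 38) = true := by decide +kernel

theorem rot2_38r : band (Rule.ok (2 * 0) EX RL ⟨2 :: [1, 2, 9, 3, 4, 7, 6, 7, 4, 7, 6, 7, 8, 2, 1, 2, 9], [4, 3, 1, 3, 6], 11, true⟩) (lall (memL L) [1, 2, 9, 3, 4, 7, 6, 7, 4, 7, 6, 7, 8, 2, 1, 2, 9]) = true := by decide +kernel

theorem rot2_39 : T.rot 2 [9, 3, 4, 7, 6, 7, 4, 7, 6, 7, 8, 2, 1, 2, 9, 2, 1] (sel (ones 224) ip2 39) = true := by decide +kernel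

theorem rot2_39r : band (Rule.ok (2 * 0) EX RL ⟨2 :: [9, 3, 4, 7, 6, 7, 4, 7, 6, 7, 8, 2, 1, 2, 9, 2, 1], [4, 3, 1, 3, 6, 3, 1], 11, true⟩) (lall (memL L) [9, 3, 4, 7, 6, 7, 4, 7, 6, 7, 8, 2, 1, 2, 9, 2, 1]) = true := by decide +kernel

theorem rot2_40 : T.rot 2 [1, 2, 9, 2, 1, 2, 9, 8, 4, 7, 6, 7, 4, 7, 6, 7, 3] (sel (ones 224) ip2 40) = true := by decide +kernel

theorem rot2_40r : band (Rule.ok (2 * 0) EX RL ⟨2 :: [1, 2, 9, 2, 1, 2, 9, 8, 4, 7, 6, 7, 4, 7, 6, 7, 3], [], 11, false⟩) (lall (memL L) [1, 2, 9, 2, 1, 2, 9, 8, 4, 7, 6, 7, 4, 7, 6, 7, 3]) = true := by decide +kernel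

theorem rot2_41 : T.rot 2 [9, 7, 6, 7, 6, 9, 7, 9, 7, 6, 9, 4, 4, 1, 2, 4, 2, 4, 1, 2, 1] (sel (ones 224) ip2 41) = true := by decide +kernel

theorem rot2_41r : band (Rule.ok (2 * 0) EX RL ⟨2 :: [9, 7, 6, 7, 6, 9, 7, 9, 7, 6, 9, 4, 4, 1, 2, 4, 2, 4, 1, 2, 1], [2], 13, true⟩) (lall (memL L) [9, 7, 6, 7, 6, 9, 7, 9, 7, 6, 9, 4, 4, 1, 2, 4, 2, 4, 1, 2, 1]) = true := by decide +kernel

theorem rot2_42 : T.rot 2 [4, 1, 2, 1, 2, 4, 7, 6, 7, 6, 9, 7, 9, 7, 6, 9, 9, 4, 1, 2, 4] (sel (ones 224) ip2 42) = true := by decide +kernel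

theorem rot2_42r : band (Rule.ok (2 * 0) EX RL ⟨2 :: [4, 1, 2, 1, 2, 4, 7, 6, 7, 6, 9, 7, 9, 7, 6, 9, 9, 4, 1, 2, 4], [6, 2, 0, 2, 0, 6, 2], 13, false⟩) (lall (memL L) [4, 1, 2, 1, 2, 4, 7, 6, 7, 6, 9, 7, 9, 7, 6, 9, 9, 4, 1, 2, 4]) = true := by decide +kernel

theorem rot2_43 : T.rot 2 [4, 7, 6, 7, 6, 9, 7, 9, 7, 6, 9, 9, 4, 1, 2, 4, 2, 4, 1, 2, 1] (sel (ones 224) ip2 43) = true := by decide +kernel

theorem rot2_43r : band (Rule.ok (2 * 0) EX RL ⟨2 :: [4, 7, 6, 7, 6, 9, 7, 9, 7, 6, 9, 9, 4, 1, 2, 4, 2, 4, 1, 2, 1], [6, 2], 13, false⟩) (lall (memL L) [4, 7, 6, 7, 6, 9, 7, 9, 7, 6, 9, 9, 4, 1, 2, 4, 2, 4, 1, 2, 1]) = true := by decide +kernel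

theorem rot2_44 : T.rot 2 [1, 2, 1, 3, 2, 9, 8, 9, 8, 6, 9, 4, 4, 1, 3, 4, 3, 4, 7, 8, 6, 7, 6, 7, 9] (sel (ones 224) ip2 44) = true := by decide +kernel

theorem rot2_44r : band (Rule.ok (2 * 0) EX RL ⟨2 :: [1, 2, 1, 3, 2, 9, 8, 9, 8, 6, 9, 4, 4, 1, 3, 4, 3, 4, 7, 8, 6, 7, 6, 7, 9], [6], 12, true⟩) (lall (memL L) [1, 2, 1, 3, 2, 9, 8, 9, 8, 6, 9, 4, 4, 1, 3, 4, 3, 4, 7, 8, 6, 7, 6, 7, 9]) = true := by decide +kernel

theorem rot2_45 : T.rot 2 [9, 8, 9, 8, 6, 9, 4, 4, 1, 3, 4, 3, 4, 7, 8, 6, 7, 6, 7, 9, 2, 1, 2, 1, 3] (sel (ones 224) ip2 45) = true := by decide +kernel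

theorem rot2_45r : band (Rule.ok (2 * 0) EX RL ⟨2 :: [9, 8, 9, 8, 6, 9, 4, 4, 1, 3, 4, 3, 4, 7, 8, 6, 7, 6, 7, 9, 2, 1, 2, 1, 3], [6, 3, 1, 3, 1, 5], 12, true⟩) (lall (memL L) [9, 8, 9, 8, 6, 9, 4, 4, 1, 3, 4, 3, 4, 7, 8, 6, 7, 6, 7, 9, 2, 1, 2, 1, 3]) = true := by decide +kernel

theorem ep1a : T.treePath [5] (Nat.shiftLeft 1 2) 1 = true := by decide +kernel

theorem ep1b : T.treePath [4, 5] (Nat.shiftLeft 1 7) 1 = true := by decide +kernel

theorem ep1c : band (lall (fun z => Nat.ble z 255) ([5] ++ 2 :: [10, 9])) (concl F IV 1421 0x20000d0052400000804 (encA ([5] ++ 2 :: [10, 9]) 0)) = true := by decide +kernel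

theorem ep1d : band (Rule.ok (2 * 0) EX [] ⟨lapp [4, 5] [10, 9], [], 0, false⟩) (band (lall (memL L) [5]) (lall (memL L) [4, 5])) = true := by decide +kernel

theorem cov2 : T.cover 2 [(sel (ones 224) ip2 1), (sel (ones 224) ip2 2), (sel (ones 224) ip2 3), (sel (ones 224) ip2 4), (sel (ones 224) ip2 5), (sel (ones 224) ip2 6), (sel (ones 224) ip2 7), (sel (ones 224) ip2 8), (sel (ones 224) ip2 9), (sel (ones 224) ip2 10), (sel (ones 224) ip2 11), (sel (ones 224) ip2 12), (sel (ones 224) ip2 13), (sel (ones 224) ip2 14), (sel (ones 224) ip2 15), (sel (ones 224) ip2 16), (sel (ones 224) ip2 17), (sel (ones 224) ip2 18), (sel (ones 224) ip2 19), (sel (ones 224) ip2 20), (sel (ones 224) ip2 21), (sel (ones 224) ip2 22), (sel (ones 224) ip2 23), (sel (ones 224) ip2 24), (sel (ones 224) ip2 25), (sel (ones 224) ip2 26), (sel (ones 224) ip2 27), (sel (ones 224) ip2 28), (sel (ones 224) ip2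 29), (sel (ones 224) ip2 30), (sel (ones 224) ip2 31), (sel (ones 224) ip2 32), (sel (ones 224) ip2 33), (sel (ones 224) ip2 34), (sel (ones 224) ip2 35), (sel (ones 224) ip2 36), (sel (ones 224) ip2 37), (sel (ones 224) ip2 38), (sel (ones 224) ip2 39), (sel (ones 224) ip2 40), (sel (ones 224) ip2 41), (sel (ones 224) ip2 42), (sel (ones 224) ip2 43), (sel (ones 224) ip2 44), (sel (ones 224) ip2 45), 1, (Nat.shiftLeft 1 2)] = true := by decide +kernel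

theorem tl2 : T.treeLt 8 2 = true := by decide +kernel

theorem rot3_1 : T.rot 3 [8] (sel (ones 224) ip3 1) = true := by decide +kernel

theorem rot3_1r : band (Rule.ok (2 * 0) EX RL ⟨3 :: [8], [], 26, false⟩) (lall (memL L) [8]) = true := by decide +kernel

theorem rot3_2 : T.rot 3 [3, 3] (sel (ones 224) ip3 2) = true := by decide +kernel

theorem rot3_2r : band (Rule.ok (2 * 0) EX RL ⟨3 :: [3, 3], [], 17, true⟩) (lall (memL L) [3, 3]) = true := by decide +kernel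

theorem rot3_3 : T.rot 3 [1, 8, 6] (sel (ones 224) ip3 3) = true := by decide +kernel

theorem rot3_3r : band (Rule.ok (2 * 0) EX RL ⟨3 :: [1, 8, 6], [0, 4], 0, true⟩) (lall (memL L) [1, 8, 6]) = true := by decide +kernel

theorem rot3_4 : T.rot 3 [6, 8, 1] (sel (ones 224) ip3 4) = true := by decide +kernel

theorem rot3_4r : band (Rule.ok (2 * 0) EX RL ⟨3 :: [6, 8, 1], [4], 0, false⟩) (lall (memL L) [6, 8, 1]) = true := by decide +kernel

theorem rot3_5 : T.rot 3 [10, 3, 5] (sel (ones 224) ip3 5) = true := by decide +kernel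

theorem rot3_5r : band (Rule.ok (2 * 0) EX RL ⟨3 :: [10, 3, 5], [], 24, true⟩) (lall (memL L) [10, 3, 5]) = true := by decide +kernel

theorem rot3_6 : T.rot 3 [5, 3, 10] (sel (ones 224) ip3 6) = true := by decide +kernel

theorem rot3_6r : band (Rule.ok (2 * 0) EX RL ⟨3 :: [5, 3, 10], [8, 4], 24, true⟩) (lall (memL L) [5, 3, 10]) = true := by decide +kernel

theorem rot3_7 : T.rot 3 [2, 8, 7, 8, 2] (sel (ones 224) ip3 7) = true := by decide +kernel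

theorem rot3_7r : band (Rule.ok (2 * 0) EX RL ⟨3 :: [2, 8, 7, 8, 2], [2, 4], 1, true⟩) (lall (memL L) [2, 8, 7, 8, 2]) = true := by decide +kernel

theorem rot3_8 : T.rot 3 [2, 3, 7, 8, 7] (sel (ones 224) ip3 8) = true := by decide +kernel

theorem rot3_8r : band (Rule.ok (2 * 0) EX RL ⟨3 :: [2, 3, 7, 8, 7], [4, 2, 4], 1, false⟩) (lall (memL L) [2, 3, 7, 8, 7]) = true := by decide +kernel

theorem rot3_9 : T.rot 3 [7, 8, 7, 3, 2] (sel (ones 224) ip3 9) = true := by decide +kernel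

theorem rot3_9r : band (Rule.ok (2 * 0) EX RL ⟨3 :: [7, 8, 7, 3, 2], [4], 1, false⟩) (lall (memL L) [7, 8, 7, 3, 2]) = true := by decide +kernel

theorem rot3_10 : T.rot 3 [7, 1, 2, 8, 2, 6, 7] (sel (ones 224) ip3 10) = true := by decide +kernel

theorem rot3_10r : band (Rule.ok (2 * 0) EX RL ⟨3 :: [7, 1, 2, 8, 2, 6, 7], [0, 2], 3, true⟩) (lall (memL L) [7, 1, 2, 8, 2, 6, 7]) = true := by decide +kernel

theorem rot3_11 : T.rot 3 [7, 6, 2, 8, 2, 1, 7] (sel (ones 224) ip3 11) = true := by decide +kernel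

theorem rot3_11r : band (Rule.ok (2 * 0) EX RL ⟨3 :: [7, 6, 2, 8, 2, 1, 7], [2], 3, false⟩) (lall (memL L) [7, 6, 2, 8, 2, 1, 7]) = true := by decide +kernel

theorem rot3_12 : T.rot 3 [9, 8, 4, 8, 10, 2, 5] (sel (ones 224) ip3 12) = true := by decide +kernel

theorem rot3_12r : band (Rule.ok (2 * 0) EX RL ⟨3 :: [9, 8, 4, 8, 10, 2, 5], [], 23, true⟩) (lall (memL L) [9, 8, 4, 8, 10, 2, 5]) = true := by decide +kernel

theorem rot3_13 : T.rot 3 [9, 3, 4, 8, 10, 7, 5] (sel (ones 224) ip3 13) = true := by decide +kernel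

theorem rot3_13r : band (Rule.ok (2 * 0) EX RL ⟨3 :: [9, 3, 4, 8, 10, 7, 5], [8, 2, 9], 23, false⟩) (lall (memL L) [9, 3, 4, 8, 10, 7, 5]) = true := by decide +kernel

theorem rot3_14 : T.rot 3 [4, 8, 10, 7, 5, 3, 9] (sel (ones 224) ip3 14) = true := by decide +kernel

theorem rot3_14r : band (Rule.ok (2 * 0) EX RL ⟨3 :: [4, 8, 10, 7, 5, 3, 9], [5, 6, 4], 23, false⟩) (lall (memL L) [4, 8, 10, 7, 5, 3, 9]) = true := by decide +kernel

theorem rot3_15 : T.rot 3 [4, 3, 4, 3, 9, 8, 9, 8, 9] (sel (ones 224) ip3 15) = true := by decide +kernel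

theorem rot3_15r : band (Rule.ok (2 * 0) EX RL ⟨3 :: [4, 3, 4, 3, 9, 8, 9, 8, 9], [4, 6, 4, 6, 4], 6, true⟩) (lall (memL L) [4, 3, 4, 3, 9, 8, 9, 8, 9]) = true := by decide +kernel

theorem rot3_16 : T.rot 3 [4, 3, 9, 8, 9, 8, 9, 3, 4] (sel (ones 224) ip3 16) = true := by decide +kernel

theorem rot3_16r : band (Rule.ok (2 * 0) EX RL ⟨3 :: [4, 3, 9, 8, 9, 8, 9, 3, 4], [4, 6, 4], 6, true⟩) (lall (memL L) [4, 3, 9, 8, 9, 8, 9, 3, 4]) = true := by decide +kernel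

theorem rot3_17 : T.rot 3 [9, 8, 9, 8, 9, 3, 4, 3, 4] (sel (ones 224) ip3 17) = true := by decide +kernel

theorem rot3_17r : band (Rule.ok (2 * 0) EX RL ⟨3 :: [9, 8, 9, 8, 9, 3, 4, 3, 4], [4], 6, true⟩) (lall (memL L) [9, 8, 9, 8, 9, 3, 4, 3, 4]) = true := by decide +kernel

theorem rot3_18 : T.rot 3 [4, 3, 4, 8, 9, 8, 9, 8, 4] (sel (ones 224) ip3 18) = true := by decide +kernel

theorem rot3_18r : band (Rule.ok (2 * 0) EX RL ⟨3 :: [4, 3, 4, 8, 9, 8, 9, 8, 4], [6, 4, 6, 4], 6, false⟩) (lall (memL L) [4, 3, 4, 8, 9, 8, 9, 8, 4]) = true := by decide +kernel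

theorem rot3_19 : T.rot 3 [4, 8, 9, 8, 9, 8, 4, 3, 4] (sel (ones 224) ip3 19) = true := by decide +kernel

theorem rot3_19r : band (Rule.ok (2 * 0) EX RL ⟨3 :: [4, 8, 9, 8, 9, 8, 4, 3, 4], [6, 4], 6, false⟩) (lall (memL L) [4, 8, 9, 8, 9, 8, 4, 3, 4]) = true := by decide +kernel

theorem rot3_20 : T.rot 3 [7, 3, 4, 8, 2, 8, 2, 9, 7] (sel (ones 224) ip3 20) = true := by decide +kernel

theorem rot3_20r : band (Rule.ok (2 * 0) EX RL ⟨3 :: [7, 3, 4, 8, 2, 8, 2, 9, 7], [6, 2], 14, true⟩) (lall (memL L) [7, 3, 4, 8, 2, 8, 2, 9, 7]) = true := by decide +kernel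

theorem rot3_21 : T.rot 3 [4, 8, 2, 8, 2, 9, 7, 3, 7] (sel (ones 224) ip3 21) = true := by decide +kernel

theorem rot3_21r : band (Rule.ok (2 * 0) EX RL ⟨3 :: [4, 8, 2, 8, 2, 9, 7, 3, 7], [6, 2, 5, 2], 14, true⟩) (lall (memL L) [4, 8, 2, 8, 2, 9, 7, 3, 7]) = true := by decide +kernel

theorem rot3_22 : T.rot 3 [7, 3, 9, 8, 2, 8, 2, 4, 7] (sel (ones 224) ip3 22) = true := by decide +kernel

theorem rot3_22r : band (Rule.ok (2 * 0) EX RL ⟨3 :: [7, 3, 9, 8, 2, 8, 2, 4, 7], [2], 14, false⟩) (lall (memL L) [7, 3, 9, 8, 2, 8, 2, 4, 7]) = true := by decide +kernel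

theorem rot3_23 : T.rot 3 [4, 7, 8, 6, 7, 6, 7, 9, 2, 1, 2, 1, 3, 2, 9, 8, 9, 8, 6, 9, 4, 4, 1, 3, 4] (sel (ones 224) ip3 23) = true := by decide +kernel

theorem rot3_23r : band (Rule.ok (2 * 0) EX RL ⟨3 :: [4, 7, 8, 6, 7, 6, 7, 9, 2, 1, 2, 1, 3, 2, 9, 8, 9, 8, 6, 9, 4, 4, 1, 3, 4], [3, 1, 3, 1, 5, 3, 6, 4], 12, true⟩) (lall (memL L) [4, 7, 8, 6, 7, 6, 7, 9, 2, 1, 2, 1, 3, 2, 9, 8, 9, 8, 6, 9, 4, 4, 1, 3, 4]) = true := by decide +kernel

theorem rot3_24 : T.rot 3 [2, 9, 8, 9, 8, 6, 9, 9, 4, 1, 3, 4, 3, 4, 7, 8, 6, 7, 6, 7, 4, 2, 1, 2, 1] (sel (ones 224) ip3 24) = true := by decide +kernel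

theorem rot3_24r : band (Rule.ok (2 * 0) EX RL ⟨3 :: [2, 9, 8, 9, 8, 6, 9, 9, 4, 1, 3, 4, 3, 4, 7, 8, 6, 7, 6, 7, 4, 2, 1, 2, 1], [3, 1, 3, 1], 12, false⟩) (lall (memL L) [2, 9, 8, 9, 8, 6, 9, 9, 4, 1, 3, 4, 3, 4, 7, 8, 6, 7, 6, 7, 4, 2, 1, 2, 1]) = true := by decide +kernel

theorem rot3_25 : T.rot 3 [4, 7, 8, 6, 7, 6, 7, 4, 2, 1, 2, 1, 3, 2, 9, 8, 9, 8, 6, 9, 9, 4, 1, 3, 4] (sel (ones 224) ip3 25) = true := by decide +kernel

theorem rot3_25r : band (Rule.ok (2 * 0) EX RL ⟨3 :: [4, 7, 8, 6, 7, 6, 7, 4, 2, 1, 2, 1, 3, 2, 9, 8, 9, 8, 6, 9, 9, 4, 1, 3, 4], [6, 3, 1, 3, 1, 5, 3, 6, 4], 12, false⟩) (lall (memL L) [4, 7, 8, 6, 7, 6, 7, 4, 2, 1, 2, 1, 3, 2, 9, 8, 9, 8, 6, 9, 9, 4, 1, 3, 4]) = true := by decide +kernel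

theorem cov3 : T.cover 3 [(sel (ones 224) ip3 1), (sel (ones 224) ip3 2), (sel (ones 224) ip3 3), (sel (ones 224) ip3 4), (sel (ones 224) ip3 5), (sel (ones 224) ip3 6), (sel (ones 224) ip3 7), (sel (ones 224) ip3 8), (sel (ones 224) ip3 9), (sel (ones 224) ip3 10), (sel (ones 224) ip3 11), (sel (ones 224) ip3 12), (sel (ones 224) ip3 13), (sel (ones 224) ip3 14), (sel (ones 224) ip3 15), (sel (ones 224) ip3 16), (sel (ones 224) ip3 17), (sel (ones 224) ip3 18), (sel (ones 224) ip3 19), (sel (ones 224) ip3 20), (sel (ones 224) ip3 21), (sel (ones 224) ip3 22), (sel (ones 224) ip3 23), (sel (ones 224) ip3 24), (sel (ones 224) ip3 25), 1] = true := by decide +kernel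

theorem tl3 : T.treeLt 8 3 = true := by decide +kernel

theorem rot4_1 : T.rot 4 [9] (sel (ones 224) ip4 1) = true := by decide +kernel

theorem rot4_1r : band (Rule.ok (2 * 0) EX RL ⟨4 :: [9], [], 26, false⟩) (lall (memL L) [9]) = true := by decide +kernel

theorem rot4_2 : T.rot 4 [4, 4] (sel (ones 224) ip4 2) = true := by decide +kernel

theorem rot4_2r : band (Rule.ok (2 * 0) EX RL ⟨4 :: [4, 4], [], 18, true⟩) (lall (memL L) [4, 4]) = true := by decide +kernel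

theorem rot4_3 : T.rot 4 [1, 9, 6, 9, 1] (sel (ones 224) ip4 3) = true := by decide +kernel

theorem rot4_3r : band (Rule.ok (2 * 0) EX RL ⟨4 :: [1, 9, 6, 9, 1], [0, 6], 4, true⟩) (lall (memL L) [1, 9, 6, 9, 1]) = true := by decide +kernel

theorem rot4_4 : T.rot 4 [1, 4, 6, 9, 6] (sel (ones 224) ip4 4) = true := by decide +kernel

theorem rot4_4r : band (Rule.ok (2 * 0) EX RL ⟨4 :: [1, 4, 6, 9, 6], [6, 0, 6], 4, false⟩) (lall (memL L) [1, 4, 6, 9, 6]) = true := by decide +kernel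

theorem rot4_5 : T.rot 4 [6, 9, 6, 4, 1] (sel (ones 224) ip4 5) = true := by decide +kernel

theorem rot4_5r : band (Rule.ok (2 * 0) EX RL ⟨4 :: [6, 9, 6, 4, 1], [6], 4, false⟩) (lall (memL L) [6, 9, 6, 4, 1]) = true := by decide +kernel

theorem rot4_6 : T.rot 4 [8, 10, 2, 5, 3, 9, 8] (sel (ones 224) ip4 6) = true := by decide +kernel

theorem rot4_6r : band (Rule.ok (2 * 0) EX RL ⟨4 :: [8, 10, 2, 5, 3, 9, 8], [5, 6, 4], 23, true⟩) (lall (memL L) [8, 10, 2, 5, 3, 9, 8]) = true := by decide +kernel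

theorem rot4_7 : T.rot 4 [8, 10, 7, 5, 3, 9, 3] (sel (ones 224) ip4 7) = true := by decide +kernel

theorem rot4_7r : band (Rule.ok (2 * 0) EX RL ⟨4 :: [8, 10, 7, 5, 3, 9, 3], [5, 6], 23, false⟩) (lall (memL L) [8, 10, 7, 5, 3, 9, 3]) = true := by decide +kernel

theorem rot4_8 : T.rot 4 [5, 1, 7, 6, 2, 6, 10] (sel (ones 224) ip4 8) = true := by decide +kernel

theorem rot4_8r : band (Rule.ok (2 * 0) EX RL ⟨4 :: [5, 1, 7, 6, 2, 6, 10], [8, 6], 25, true⟩) (lall (memL L) [5, 1, 7, 6, 2, 6, 10]) = true := by decide +kernel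

theorem rot4_9 : T.rot 4 [2, 4, 2, 9, 7, 9, 7, 9, 2] (sel (ones 224) ip4 9) = true := by decide +kernel

theorem rot4_9r : band (Rule.ok (2 * 0) EX RL ⟨4 :: [2, 4, 2, 9, 7, 9, 7, 9, 2], [2, 6, 2, 6], 5, true⟩) (lall (memL L) [2, 4, 2, 9, 7, 9, 7, 9, 2]) = true := by decide +kernel

theorem rot4_10 : T.rot 4 [2, 9, 7, 9, 7, 9, 2, 4, 2] (sel (ones 224) ip4 10) = true := by decide +kernel

theorem rot4_10r : band (Rule.ok (2 * 0) EX RL ⟨4 :: [2, 9, 7, 9, 7, 9, 2, 4, 2], [2, 6], 5, true⟩) (lall (memL L) [2, 9, 7, 9, 7, 9, 2, 4, 2]) = true := by decide +kernel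

theorem rot4_11 : T.rot 4 [2, 4, 2, 4, 7, 9, 7, 9, 7] (sel (ones 224) ip4 11) = true := by decide +kernel

theorem rot4_11r : band (Rule.ok (2 * 0) EX RL ⟨4 :: [2, 4, 2, 4, 7, 9, 7, 9, 7], [6, 2, 6, 2, 6], 5, false⟩) (lall (memL L) [2, 4, 2, 4, 7, 9, 7, 9, 7]) = true := by decide +kernel

theorem rot4_12 : T.rot 4 [2, 4, 7, 9, 7, 9, 7, 4, 2] (sel (ones 224) ip4 12) = true := by decide +kernel

theorem rot4_12r : band (Rule.ok (2 * 0) EX RL ⟨4 :: [2, 4, 7, 9, 7, 9, 7, 4, 2], [6, 2, 6], 5, false⟩) (lall (memL L) [2, 4, 7, 9, 7, 9, 7, 4, 2]) = true := by decide +kernel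

theorem rot4_13 : T.rot 4 [7, 9, 7, 9, 7, 4, 2, 4, 2] (sel (ones 224) ip4 13) = true := by decide +kernel

theorem rot4_13r : band (Rule.ok (2 * 0) EX RL ⟨4 :: [7, 9, 7, 9, 7, 4, 2, 4, 2], [6], 5, false⟩) (lall (memL L) [7, 9, 7, 9, 7, 4, 2, 4, 2]) = true := by decide +kernel

theorem rot4_14 : T.rot 4 [3, 4, 3, 9, 8, 9, 8, 9, 3] (sel (ones 224) ip4 14) = true := by decide +kernel

theorem rot4_14r : band (Rule.ok (2 * 0) EX RL ⟨4 :: [3, 4, 3, 9, 8, 9, 8, 9, 3], [4, 6, 4, 6], 6, true⟩) (lall (memL L) [3, 4, 3, 9, 8, 9, 8, 9, 3]) = true := by decide +kernel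

theorem rot4_15 : T.rot 4 [3, 9, 8, 9, 8, 9, 3, 4, 3] (sel (ones 224) ip4 15) = true := by decide +kernel

theorem rot4_15r : band (Rule.ok (2 * 0) EX RL ⟨4 :: [3, 9, 8, 9, 8, 9, 3, 4, 3], [4, 6], 6, true⟩) (lall (memL L) [3, 9, 8, 9, 8, 9, 3, 4, 3]) = true := by decide +kernel

theorem rot4_16 : T.rot 4 [3, 4, 3, 4, 8, 9, 8, 9, 8] (sel (ones 224) ip4 16) = true := by decide +kernel

theorem rot4_16r : band (Rule.ok (2 * 0) EX RL ⟨4 :: [3, 4, 3, 4, 8, 9, 8, 9, 8], [6, 4, 6, 4, 6], 6, false⟩) (lall (memL L) [3, 4, 3, 4, 8, 9, 8, 9, 8]) = true := by decide +kernel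

theorem rot4_17 : T.rot 4 [3, 4, 8, 9, 8, 9, 8, 4, 3] (sel (ones 224) ip4 17) = true := by decide +kernel

theorem rot4_17r : band (Rule.ok (2 * 0) EX RL ⟨4 :: [3, 4, 8, 9, 8, 9, 8, 4, 3], [6, 4, 6], 6, false⟩) (lall (memL L) [3, 4, 8, 9, 8, 9, 8, 4, 3]) = true := by decide +kernel

theorem rot4_18 : T.rot 4 [8, 9, 8, 9, 8, 4, 3, 4, 3] (sel (ones 224) ip4 18) = true := by decide +kernel

theorem rot4_18r : band (Rule.ok (2 * 0) EX RL ⟨4 :: [8, 9, 8, 9, 8, 4, 3, 4, 3], [6], 6, false⟩) (lall (memL L) [8, 9, 8, 9, 8, 4, 3, 4, 3]) = true := by decide +kernel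

theorem rot4_19 : T.rot 4 [6, 4, 6, 7, 1, 9, 1, 9, 2] (sel (ones 224) ip4 19) = true := by decide +kernel

theorem rot4_19r : band (Rule.ok (2 * 0) EX RL ⟨4 :: [6, 4, 6, 7, 1, 9, 1, 9, 2], [1, 6, 1, 6], 7, true⟩) (lall (memL L) [6, 4, 6, 7, 1, 9, 1, 9, 2]) = true := by decide +kernel

theorem rot4_20 : T.rot 4 [6, 7, 1, 9, 1, 9, 2, 4, 6] (sel (ones 224) ip4 20) = true := by decide +kernel

theorem rot4_20r : band (Rule.ok (2 * 0) EX RL ⟨4 :: [6, 7, 1, 9, 1, 9, 2, 4, 6], [1, 6], 7, true⟩) (lall (memL L) [6, 7, 1, 9, 1, 9, 2, 4, 6]) = true := by decide +kernel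

theorem rot4_21 : T.rot 4 [6, 2, 1, 9, 1, 9, 7, 4, 6] (sel (ones 224) ip4 21) = true := by decide +kernel

theorem rot4_21r : band (Rule.ok (2 * 0) EX RL ⟨4 :: [6, 2, 1, 9, 1, 9, 7, 4, 6], [2, 1, 6], 7, false⟩) (lall (memL L) [6, 2, 1, 9, 1, 9, 7, 4, 6]) = true := by decide +kernel

theorem rot4_22 : T.rot 4 [6, 3, 1, 9, 1, 9, 8, 4, 6] (sel (ones 224) ip4 22) = true := by decide +kernel

theorem rot4_22r : band (Rule.ok (2 * 0) EX RL ⟨4 :: [6, 3, 1, 9, 1, 9, 8, 4, 6], [4, 1, 6], 8, false⟩) (lall (memL L) [6, 3, 1, 9, 1, 9, 8, 4, 6]) = true := by decide +kernel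

theorem rot4_23 : T.rot 4 [1, 7, 4, 7, 4, 6, 2, 6, 2, 1] (sel (ones 224) ip4 23) = true := by decide +kernel

theorem rot4_23r : band (Rule.ok (2 * 0) EX RL ⟨4 :: [1, 7, 4, 7, 4, 6, 2, 6, 2, 1], [], 20, true⟩) (lall (memL L) [1, 7, 4, 7, 4, 6, 2, 6, 2, 1]) = true := by decide +kernel

theorem rot4_24 : T.rot 4 [7, 4, 6, 2, 6, 2, 1, 4, 1, 7] (sel (ones 224) ip4 24) = true := by decide +kernel

theorem rot4_24r : band (Rule.ok (2 * 0) EX RL ⟨4 :: [7, 4, 6, 2, 6, 2, 1, 4, 1, 7], [7, 1, 2], 20, true⟩) (lall (memL L) [7, 4, 6, 2, 6, 2, 1, 4, 1, 7]) = true := by decide +kernel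

theorem rot4_25 : T.rot 4 [6, 2, 6, 2, 1, 4, 1, 7, 4, 7] (sel (ones 224) ip4 25) = true := by decide +kernel

theorem rot4_25r : band (Rule.ok (2 * 0) EX RL ⟨4 :: [6, 2, 6, 2, 1, 4, 1, 7, 4, 7], [7, 1, 2, 7, 2], 20, true⟩) (lall (memL L) [6, 2, 6, 2, 1, 4, 1, 7, 4, 7]) = true := by decide +kernel

theorem rot4_26 : T.rot 4 [7, 6, 7, 6, 2, 1, 2, 9, 2, 1, 2, 9, 1, 4, 7, 6, 7] (sel (ones 224) ip4 26) = true := by decide +kernel

theorem rot4_26r : band (Rule.ok (2 * 0) EX RL ⟨4 :: [7, 6, 7, 6, 2, 1, 2, 9, 2, 1, 2, 9, 1, 4, 7, 6, 7], [3, 1, 3, 6], 9, true⟩) (lall (memL L) [7, 6, 7, 6, 2, 1, 2, 9, 2, 1, 2, 9, 1, 4, 7, 6, 7]) = true := by decide +kernel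

theorem rot4_27 : T.rot 4 [7, 6, 7, 1, 2, 1, 2, 9, 2, 1, 2, 9, 6, 4, 7, 6, 7] (sel (ones 224) ip4 27) = true := by decide +kernel

theorem rot4_27r : band (Rule.ok (2 * 0) EX RL ⟨4 :: [7, 6, 7, 1, 2, 1, 2, 9, 2, 1, 2, 9, 6, 4, 7, 6, 7], [0, 3, 1, 3, 6], 9, false⟩) (lall (memL L) [7, 6, 7, 1, 2, 1, 2, 9, 2, 1, 2, 9, 6, 4, 7, 6, 7]) = true := by decide +kernel

theorem rot4_28 : T.rot 4 [7, 6, 7, 7, 2, 1, 2, 9, 2, 1, 2, 9, 2, 4, 7, 6, 7] (sel (ones 224) ip4 28) = true := by decide +kernel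

theorem rot4_28r : band (Rule.ok (2 * 0) EX RL ⟨4 :: [7, 6, 7, 7, 2, 1, 2, 9, 2, 1, 2, 9, 2, 4, 7, 6, 7], [3, 1, 3, 6], 10, true⟩) (lall (memL L) [7, 6, 7, 7, 2, 1, 2, 9, 2, 1, 2, 9, 2, 4, 7, 6, 7]) = true := by decide +kernel

theorem rot4_29 : T.rot 4 [7, 6, 7, 8, 2, 1, 2, 9, 2, 1, 2, 9, 3, 4, 7, 6, 7] (sel (ones 224) ip4 29) = true := by decide +kernel

theorem rot4_29r : band (Rule.ok (2 * 0) EX RL ⟨4 :: [7, 6, 7, 8, 2, 1, 2, 9, 2, 1, 2, 9, 3, 4, 7, 6, 7], [3, 1, 3, 6], 11, true⟩) (lall (memL L) [7, 6, 7, 8, 2, 1, 2, 9, 2, 1, 2, 9, 3, 4, 7, 6, 7]) = true := by decide +kernel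

theorem rot4_30 : T.rot 4 [1, 2, 1, 2, 9, 7, 6, 7, 6, 9, 7, 9, 7, 6, 9, 4, 4, 1, 2, 4, 2] (sel (ones 224) ip4 30) = true := by decide +kernel

theorem rot4_30r : band (Rule.ok (2 * 0) EX RL ⟨4 :: [1, 2, 1, 2, 9, 7, 6, 7, 6, 9, 7, 9, 7, 6, 9, 4, 4, 1, 2, 4, 2], [2, 0, 2, 0, 6], 13, true⟩) (lall (memL L) [1, 2, 1, 2, 9, 7, 6, 7, 6, 9, 7, 9, 7, 6, 9, 4, 4, 1, 2, 4, 2]) = true := by decide +kernel

theorem rot4_31 : T.rot 4 [1, 2, 1, 2, 4, 7, 6, 7, 6, 9, 7, 9, 7, 6, 9, 9, 4, 1, 2, 4, 2] (sel (ones 224) ip4 31) = true := by decide +kernel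

theorem rot4_31r : band (Rule.ok (2 * 0) EX RL ⟨4 :: [1, 2, 1, 2, 4, 7, 6, 7, 6, 9, 7, 9, 7, 6, 9, 9, 4, 1, 2, 4, 2], [6, 2, 0, 2, 0, 6], 13, false⟩) (lall (memL L) [1, 2, 1, 2, 4, 7, 6, 7, 6, 9, 7, 9, 7, 6, 9, 9, 4, 1, 2, 4, 2]) = true := by decide +kernel

theorem rot4_32 : T.rot 4 [7, 6, 7, 6, 9, 7, 9, 7, 6, 9, 9, 4, 1, 2, 4, 2, 4, 1, 2, 1, 2] (sel (ones 224) ip4 32) = true := by decide +kernel

theorem rot4_32r : band (Rule.ok (2 * 0) EX RL ⟨4 :: [7, 6, 7, 6, 9, 7, 9, 7, 6, 9, 9, 4, 1, 2, 4, 2, 4, 1, 2, 1, 2], [6], 13, false⟩) (lall (memL L) [7, 6, 7, 6, 9, 7, 9, 7, 6, 9, 9, 4, 1, 2, 4, 2, 4, 1, 2, 1, 2]) = true := by decide +kernel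

theorem rot4_33 : T.rot 4 [3, 4, 7, 8, 6, 7, 6, 7, 9, 2, 1, 2, 1, 3, 2, 9, 8, 9, 8, 6, 9, 4, 4, 1, 3] (sel (ones 224) ip4 33) = true := by decide +kernel

theorem rot4_33r : band (Rule.ok (2 * 0) EX RL ⟨4 :: [3, 4, 7, 8, 6, 7, 6, 7, 9, 2, 1, 2, 1, 3, 2, 9, 8, 9, 8, 6, 9, 4, 4, 1, 3], [3, 1, 3, 1, 5, 3, 6, 4, 6], 12, true⟩) (lall (memL L) [3, 4, 7, 8, 6, 7, 6, 7, 9, 2, 1, 2, 1, 3, 2, 9, 8, 9, 8, 6, 9, 4, 4, 1, 3]) = true := by decide +kernel

theorem rot4_34 : T.rot 4 [7, 8, 6, 7, 6, 7, 9, 2, 1, 2, 1, 3, 2, 9, 8, 9, 8, 6, 9, 4, 4, 1, 3, 4, 3] (sel (ones 224) ip4 34) = true := by decide +kernel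

theorem rot4_34r : band (Rule.ok (2 * 0) EX RL ⟨4 :: [7, 8, 6, 7, 6, 7, 9, 2, 1, 2, 1, 3, 2, 9, 8, 9, 8, 6, 9, 4, 4, 1, 3, 4, 3], [3, 1, 3, 1, 5, 3, 6], 12, true⟩) (lall (memL L) [7, 8, 6, 7, 6, 7, 9, 2, 1, 2, 1, 3, 2, 9, 8, 9, 8, 6, 9, 4, 4, 1, 3, 4, 3]) = true := by decide +kernel

theorem rot4_35 : T.rot 4 [7, 8, 6, 7, 6, 7, 4, 2, 1, 2, 1, 3, 2, 9, 8, 9, 8, 6, 9, 9, 4, 1, 3, 4, 3] (sel (ones 224) ip4 35) = true := by decide +kernel

theorem rot4_35r : band (Rule.ok (2 * 0) EX RL ⟨4 :: [7, 8, 6, 7, 6, 7, 4, 2, 1, 2, 1, 3, 2, 9, 8, 9, 8, 6, 9, 9, 4, 1, 3, 4, 3], [6, 3, 1, 3, 1, 5, 3, 6], 12, false⟩) (lall (memL L) [7, 8, 6, 7, 6, 7, 4, 2, 1, 2, 1, 3, 2, 9, 8, 9, 8, 6, 9, 9, 4, 1, 3, 4, 3]) = true := by decide +kernel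

theorem rot4_36 : T.rot 4 [2, 1, 2, 1, 3, 2, 9, 8, 9, 8, 6, 9, 9, 4, 1, 3, 4, 3, 4, 7, 8, 6, 7, 6, 7] (sel (ones 224) ip4 36) = true := by decide +kernel

theorem rot4_36r : band (Rule.ok (2 * 0) EX RL ⟨4 :: [2, 1, 2, 1, 3, 2, 9, 8, 9, 8, 6, 9, 9, 4, 1, 3, 4, 3, 4, 7, 8, 6, 7, 6, 7], [6], 12, false⟩) (lall (memL L) [2, 1, 2, 1, 3, 2, 9, 8, 9, 8, 6, 9, 9, 4, 1, 3, 4, 3, 4, 7, 8, 6, 7, 6, 7]) = true := by decide +kernel

theorem cov4 : T.cover 4 [(sel (ones 224) ip4 1), (sel (ones 224) ip4 2), (sel (ones 224) ip4 3), (sel (ones 224) ip4 4), (sel (ones 224) ip4 5), (sel (ones 224) ip4 6), (sel (ones 224) ip4 7), (sel (ones 224) ip4 8), (sel (ones 224) ip4 9), (sel (ones 224) ip4 10), (sel (ones 224) ip4 11), (sel (ones 224) ip4 12), (sel (ones 224) ip4 13), (sel (ones 224) ip4 14), (sel (ones 224) ip4 15), (sel (ones 224) ip4 16), (sel (ones 224) ip4 17), (sel (ones 224) ip4 18), (sel (ones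 224) ip4 19), (sel (ones 224) ip4 20), (sel (ones 224) ip4 21), (sel (ones 224) ip4 22), (sel (ones 224) ip4 23), (sel (ones 224) ip4 24), (sel (ones 224) ip4 25), (sel (ones 224) ip4 26), (sel (ones 224) ip4 27), (sel (ones 224) ip4 28), (sel (ones 224) ip4 29), (sel (ones 224) ip4 30), (sel (ones 224) ip4 31), (sel (ones 224) ip4 32), (sel (ones 224) ip4 33), (sel (ones 224) ip4 34), (sel (ones 224) ip4 35), (sel (ones 224) ip4 36)] = true := by decide +kernel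

theorem tl4 : T.treeLt 8 4 = true := by decide +kernel

theorem rot5_1 : T.rot 5 [5] (sel (ones 224) ip5 1) = true := by decide +kernel

theorem rot5_1r : band (Rule.ok (2 * 0) EX RL ⟨5 :: [5], [], 21, true⟩) (lall (memL L) [5]) = true := by decide +kernel

theorem rot5_2 : T.rot 5 [1, 10, 1] (sel (ones 224) ip5 2) = true := by decide +kernel

theorem rot5_2r : band (Rule.ok (2 * 0) EX RL ⟨5 :: [1, 10, 1], [8], 22, true⟩) (lall (memL L) [1, 10, 1]) = true := by decide +kernel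

theorem rot5_3 : T.rot 5 [6, 10, 6] (sel (ones 224) ip5 3) = true := by decide +kernel

theorem rot5_3r : band (Rule.ok (2 * 0) EX RL ⟨5 :: [6, 10, 6], [1, 8], 22, false⟩) (lall (memL L) [6, 10, 6]) = true := by decide +kernel

theorem rot5_4 : T.rot 5 [3, 10, 3] (sel (ones 224) ip5 4) = true := by decide +kernel

theorem rot5_4r : band (Rule.ok (2 * 0) EX RL ⟨5 :: [3, 10, 3], [8], 24, true⟩) (lall (memL L) [3, 10, 3]) = true := by decide +kernel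

theorem rot5_5 : T.rot 5 [8, 10, 8] (sel (ones 224) ip5 5) = true := by decide +kernel

theorem rot5_5r : band (Rule.ok (2 * 0) EX RL ⟨5 :: [8, 10, 8], [5, 8], 24, false⟩) (lall (memL L) [8, 10, 8]) = true := by decide +kernel

theorem rot5_6 : T.rot 5 [3, 9, 8, 4, 8, 10, 2] (sel (ones 224) ip5 6) = true := by decide +kernel

theorem rot5_6r : band (Rule.ok (2 * 0) EX RL ⟨5 :: [3, 9, 8, 4, 8, 10, 2], [8], 23, true⟩) (lall (memL L) [3, 9, 8, 4, 8, 10, 2]) = true := by decide +kernel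

theorem rot5_7 : T.rot 5 [3, 9, 3, 4, 8, 10, 7] (sel (ones 224) ip5 7) = true := by decide +kernel

theorem rot5_7r : band (Rule.ok (2 * 0) EX RL ⟨5 :: [3, 9, 3, 4, 8, 10, 7], [8, 2], 23, false⟩) (lall (memL L) [3, 9, 3, 4, 8, 10, 7]) = true := by decide +kernel

theorem rot5_8 : T.rot 5 [1, 7, 6, 2, 6, 10, 4] (sel (ones 224) ip5 8) = true := by decide +kernel

theorem rot5_8r : band (Rule.ok (2 * 0) EX RL ⟨5 :: [1, 7, 6, 2, 6, 10, 4], [8], 25, true⟩) (lall (memL L) [1, 7, 6, 2, 6, 10, 4]) = true := by decide +kernel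

theorem rot5_9 : T.rot 5 [1, 7, 1, 2, 6, 10, 9] (sel (ones 224) ip5 9) = true := by decide +kernel

theorem rot5_9r : band (Rule.ok (2 * 0) EX RL ⟨5 :: [1, 7, 1, 2, 6, 10, 9], [8, 6], 25, false⟩) (lall (memL L) [1, 7, 1, 2, 6, 10, 9]) = true := by decide +kernel

theorem cov5 : T.cover 5 [(sel (ones 224) ip5 1), (sel (ones 224) ip5 2), (sel (ones 224) ip5 3), (sel (ones 224) ip5 4), (sel (ones 224) ip5 5), (sel (ones 224) ip5 6), (sel (ones 224) ip5 7), (sel (ones 224) ip5 8), (sel (ones 224) ip5 9)] = true := by decide +kernel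

theorem tl5 : T.treeLt 8 5 = true := by decide +kernel

theorem rot6_1 : T.rot 6 [1] (sel (ones 224) ip6 1) = true := by decide +kernel

theorem rot6_1r : band (Rule.ok (2 * 0) EX RL ⟨6 :: [1], [], 26, false⟩) (lall (memL L) [1]) = true := by decide +kernel

theorem rot6_2 : T.rot 6 [6, 6] (sel (ones 224) ip6 2) = true := by decide +kernel

theorem rot6_2r : band (Rule.ok (2 * 0) EX RL ⟨6 :: [6, 6], [], 15, false⟩) (lall (memL L) [6, 6]) = true := by decide +kernel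

theorem rot6_3 : T.rot 6 [3, 1, 8] (sel (ones 224) ip6 3) = true := by decide +kernel

theorem rot6_3r : band (Rule.ok (2 * 0) EX RL ⟨6 :: [3, 1, 8], [4], 0, true⟩) (lall (memL L) [3, 1, 8]) = true := by decide +kernel

theorem rot6_4 : T.rot 6 [8, 1, 3] (sel (ones 224) ip6 4) = true := by decide +kernel

theorem rot6_4r : band (Rule.ok (2 * 0) EX RL ⟨6 :: [8, 1, 3], [], 0, false⟩) (lall (memL L) [8, 1, 3]) = true := by decide +kernel

theorem rot6_5 : T.rot 6 [5, 6, 10] (sel (ones 224) ip6 5) = true := by decide +kernel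

theorem rot6_5r : band (Rule.ok (2 * 0) EX RL ⟨6 :: [5, 6, 10], [8], 22, false⟩) (lall (memL L) [5, 6, 10]) = true := by decide +kernel

theorem rot6_6 : T.rot 6 [10, 6, 5] (sel (ones 224) ip6 6) = true := by decide +kernel

theorem rot6_6r : band (Rule.ok (2 * 0) EX RL ⟨6 :: [10, 6, 5], [1], 22, false⟩) (lall (memL L) [10, 6, 5]) = true := by decide +kernel

theorem rot6_7 : T.rot 6 [9, 1, 4, 1, 9] (sel (ones 224) ip6 7) = true := by decide +kernel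

theorem rot6_7r : band (Rule.ok (2 * 0) EX RL ⟨6 :: [9, 1, 4, 1, 9], [6], 4, true⟩) (lall (memL L) [9, 1, 4, 1, 9]) = true := by decide +kernel

theorem rot6_8 : T.rot 6 [9, 6, 4, 1, 4] (sel (ones 224) ip6 8) = true := by decide +kernel

theorem rot6_8r : band (Rule.ok (2 * 0) EX RL ⟨6 :: [9, 6, 4, 1, 4], [], 4, false⟩) (lall (memL L) [9, 6, 4, 1, 4]) = true := by decide +kernel

theorem rot6_9 : T.rot 6 [4, 1, 4, 6, 9] (sel (ones 224) ip6 9) = true := by decide +kernel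

theorem rot6_9r : band (Rule.ok (2 * 0) EX RL ⟨6 :: [4, 1, 4, 6, 9], [0, 6], 4, false⟩) (lall (memL L) [4, 1, 4, 6, 9]) = true := by decide +kernel

theorem rot6_10 : T.rot 6 [2, 8, 2, 1, 7, 3, 7] (sel (ones 224) ip6 10) = true := by decide +kernel

theorem rot6_10r : band (Rule.ok (2 * 0) EX RL ⟨6 :: [2, 8, 2, 1, 7, 3, 7], [2, 5, 2], 3, false⟩) (lall (memL L) [2, 8, 2, 1, 7, 3, 7]) = true := by decide +kernel

theorem rot6_11 : T.rot 6 [2, 6, 10, 4, 5, 1, 7] (sel (ones 224) ip6 11) = true := by decide +kernel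

theorem rot6_11r : band (Rule.ok (2 * 0) EX RL ⟨6 :: [2, 6, 10, 4, 5, 1, 7], [1, 2], 25, true⟩) (lall (memL L) [2, 6, 10, 4, 5, 1, 7]) = true := by decide +kernel

theorem rot6_12 : T.rot 6 [10, 4, 5, 1, 7, 6, 2] (sel (ones 224) ip6 12) = true := by decide +kernel

theorem rot6_12r : band (Rule.ok (2 * 0) EX RL ⟨6 :: [10, 4, 5, 1, 7, 6, 2], [8, 6, 9, 1], 25, true⟩) (lall (memL L) [10, 4, 5, 1, 7, 6, 2]) = true := by decide +kernel

theorem rot6_13 : T.rot 6 [10, 9, 5, 1, 7, 1, 2] (sel (ones 224) ip6 13) = true := by decide +kernel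

theorem rot6_13r : band (Rule.ok (2 * 0) EX RL ⟨6 :: [10, 9, 5, 1, 7, 1, 2], [1], 25, false⟩) (lall (memL L) [10, 9, 5, 1, 7, 1, 2]) = true := by decide +kernel

theorem rot6_14 : T.rot 6 [7, 6, 7, 1, 2, 1, 2, 1, 7] (sel (ones 224) ip6 14) = true := by decide +kernel

theorem rot6_14r : band (Rule.ok (2 * 0) EX RL ⟨6 :: [7, 6, 7, 1, 2, 1, 2, 1, 7], [2], 2, true⟩) (lall (memL L) [7, 6, 7, 1, 2, 1, 2, 1, 7]) = true := by decide +kernel

theorem rot6_15 : T.rot 6 [7, 1, 2, 1, 2, 1, 7, 6, 7] (sel (ones 224) ip6 15) = true := by decide +kernel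

theorem rot6_15r : band (Rule.ok (2 * 0) EX RL ⟨6 :: [7, 1, 2, 1, 2, 1, 7, 6, 7], [2, 0, 2], 2, true⟩) (lall (memL L) [7, 1, 2, 1, 2, 1, 7, 6, 7]) = true := by decide +kernel

theorem rot6_16 : T.rot 6 [7, 6, 7, 6, 2, 1, 2, 1, 2] (sel (ones 224) ip6 16) = true := by decide +kernel

theorem rot6_16r : band (Rule.ok (2 * 0) EX RL ⟨6 :: [7, 6, 7, 6, 2, 1, 2, 1, 2], [], 2, false⟩) (lall (memL L) [7, 6, 7, 6, 2, 1, 2, 1, 2]) = true := by decide +kernel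

theorem rot6_17 : T.rot 6 [7, 6, 2, 1, 2, 1, 2, 6, 7] (sel (ones 224) ip6 17) = true := by decide +kernel

theorem rot6_17r : band (Rule.ok (2 * 0) EX RL ⟨6 :: [7, 6, 2, 1, 2, 1, 2, 6, 7], [0, 2], 2, false⟩) (lall (memL L) [7, 6, 2, 1, 2, 1, 2, 6, 7]) = true := by decide +kernel

theorem rot6_18 : T.rot 6 [2, 1, 2, 1, 2, 6, 7, 6, 7] (sel (ones 224) ip6 18) = true := by decide +kernel

theorem rot6_18r : band (Rule.ok (2 * 0) EX RL ⟨6 :: [2, 1, 2, 1, 2, 6, 7, 6, 7], [0, 2, 0, 2], 2, false⟩) (lall (memL L) [2, 1, 2, 1, 2, 6, 7, 6, 7]) = true := by decide +kernel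

theorem rot6_19 : T.rot 6 [4, 6, 7, 1, 9, 1, 9, 2, 4] (sel (ones 224) ip6 19) = true := by decide +kernel

theorem rot6_19r : band (Rule.ok (2 * 0) EX RL ⟨6 :: [4, 6, 7, 1, 9, 1, 9, 2, 4], [1, 6, 1], 7, true⟩) (lall (memL L) [4, 6, 7, 1, 9, 1, 9, 2, 4]) = true := by decide +kernel

theorem rot6_20 : T.rot 6 [7, 1, 9, 1, 9, 2, 4, 6, 4] (sel (ones 224) ip6 20) = true := by decide +kernel

theorem rot6_20r : band (Rule.ok (2 * 0) EX RL ⟨6 :: [7, 1, 9, 1, 9, 2, 4, 6, 4], [1], 7, true⟩) (lall (memL L) [7, 1, 9, 1, 9, 2, 4, 6, 4]) = true := by decide +kernel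

theorem rot6_21 : T.rot 6 [4, 6, 2, 1, 9, 1, 9, 7, 4] (sel (ones 224) ip6 21) = true := by decide +kernel

theorem rot6_21r : band (Rule.ok (2 * 0) EX RL ⟨6 :: [4, 6, 2, 1, 9, 1, 9, 7, 4], [2, 1, 6, 1], 7, false⟩) (lall (memL L) [4, 6, 2, 1, 9, 1, 9, 7, 4]) = true := by decide +kernel

theorem rot6_22 : T.rot 6 [2, 1, 9, 1, 9, 7, 4, 6, 4] (sel (ones 224) ip6 22) = true := by decide +kernel

theorem rot6_22r : band (Rule.ok (2 * 0) EX RL ⟨6 :: [2, 1, 9, 1, 9, 7, 4, 6, 4], [2, 1], 7, false⟩) (lall (memL L) [2, 1, 9, 1, 9, 7, 4, 6, 4]) = true := by decide +kernel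

theorem rot6_23 : T.rot 6 [4, 6, 8, 1, 9, 1, 9, 3, 4] (sel (ones 224) ip6 23) = true := by decide +kernel

theorem rot6_23r : band (Rule.ok (2 * 0) EX RL ⟨6 :: [4, 6, 8, 1, 9, 1, 9, 3, 4], [1, 6, 1], 8, true⟩) (lall (memL L) [4, 6, 8, 1, 9, 1, 9, 3, 4]) = true := by decide +kernel

theorem rot6_24 : T.rot 6 [8, 1, 9, 1, 9, 3, 4, 6, 4] (sel (ones 224) ip6 24) = true := by decide +kernel

theorem rot6_24r : band (Rule.ok (2 * 0) EX RL ⟨6 :: [8, 1, 9, 1, 9, 3, 4, 6, 4], [1], 8, true⟩) (lall (memL L) [8, 1, 9, 1, 9, 3, 4, 6, 4]) = true := by decide +kernel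

theorem rot6_25 : T.rot 6 [4, 6, 3, 1, 9, 1, 9, 8, 4] (sel (ones 224) ip6 25) = true := by decide +kernel

theorem rot6_25r : band (Rule.ok (2 * 0) EX RL ⟨6 :: [4, 6, 3, 1, 9, 1, 9, 8, 4], [4, 1, 6, 1], 8, false⟩) (lall (memL L) [4, 6, 3, 1, 9, 1, 9, 8, 4]) = true := by decide +kernel

theorem rot6_26 : T.rot 6 [2, 6, 2, 1, 4, 1, 7, 4, 7, 4] (sel (ones 224) ip6 26) = true := by decide +kernel

theorem rot6_26r : band (Rule.ok (2 * 0) EX RL ⟨6 :: [2, 6, 2, 1, 4, 1, 7, 4, 7, 4], [0, 2, 1, 2, 1], 20, true⟩) (lall (memL L) [2, 6, 2, 1, 4, 1, 7, 4, 7, 4]) = true := by decide +kernel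

theorem rot6_27 : T.rot 6 [2, 1, 4, 1, 7, 4, 7, 4, 6, 2] (sel (ones 224) ip6 27) = true := by decide +kernel

theorem rot6_27r : band (Rule.ok (2 * 0) EX RL ⟨6 :: [2, 1, 4, 1, 7, 4, 7, 4, 6, 2], [0, 2, 1], 20, true⟩) (lall (memL L) [2, 1, 4, 1, 7, 4, 7, 4, 6, 2]) = true := by decide +kernel

theorem rot6_28 : T.rot 6 [7, 1, 7, 1, 9, 2, 9, 2, 6, 9] (sel (ones 224) ip6 28) = true := by decide +kernel

theorem rot6_28r : band (Rule.ok (2 * 0) EX RL ⟨6 :: [7, 1, 7, 1, 9, 2, 9, 2, 6, 9], [], 20, false⟩) (lall (memL L) [7, 1, 7, 1, 9, 2, 9, 2, 6, 9]) = true := by decide +kernel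

theorem rot6_29 : T.rot 6 [9, 6, 7, 1, 7, 1, 9, 2, 9, 2] (sel (ones 224) ip6 29) = true := by decide +kernel

theorem rot6_29r : band (Rule.ok (2 * 0) EX RL ⟨6 :: [9, 6, 7, 1, 7, 1, 9, 2, 9, 2], [7, 1], 20, false⟩) (lall (memL L) [9, 6, 7, 1, 7, 1, 9, 2, 9, 2]) = true := by decide +kernel

theorem rot6_30 : T.rot 6 [7, 4, 7, 6, 7, 6, 2, 1, 2, 9, 2, 1, 2, 9, 1, 4, 7] (sel (ones 224) ip6 30) = true := by decide +kernel

theorem rot6_30r : band (Rule.ok (2 * 0) EX RL ⟨6 :: [7, 4, 7, 6, 7, 6, 2, 1, 2, 9, 2, 1, 2, 9, 1, 4, 7], [3, 1, 3, 6, 3, 1], 9, true⟩) (lall (memL L) [7, 4, 7, 6, 7, 6, 2, 1, 2, 9, 2, 1, 2, 9, 1, 4, 7]) = true := by decide +kernel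

theorem rot6_31 : T.rot 6 [7, 4, 7, 6, 7, 7, 2, 1, 2, 9, 2, 1, 2, 9, 2, 4, 7] (sel (ones 224) ip6 31) = true := by decide +kernel

theorem rot6_31r : band (Rule.ok (2 * 0) EX RL ⟨6 :: [7, 4, 7, 6, 7, 7, 2, 1, 2, 9, 2, 1, 2, 9, 2, 4, 7], [3, 1, 3, 6, 3, 1], 10, true⟩) (lall (memL L) [7, 4, 7, 6, 7, 7, 2, 1, 2, 9, 2, 1, 2, 9, 2, 4, 7]) = true := by decide +kernel

theorem rot6_32 : T.rot 6 [7, 4, 7, 6, 7, 2, 2, 1, 2, 9, 2, 1, 2, 9, 7, 4, 7] (sel (ones 224) ip6 32) = true := by decide +kernel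

theorem rot6_32r : band (Rule.ok (2 * 0) EX RL ⟨6 :: [7, 4, 7, 6, 7, 2, 2, 1, 2, 9, 2, 1, 2, 9, 7, 4, 7], [1, 3, 6, 3, 1], 10, false⟩) (lall (memL L) [7, 4, 7, 6, 7, 2, 2, 1, 2, 9, 2, 1, 2, 9, 7, 4, 7]) = true := by decide +kernel

theorem rot6_33 : T.rot 6 [7, 6, 9, 7, 9, 7, 6, 9, 4, 4, 1, 2, 4, 2, 4, 1, 2, 1, 2, 9, 7] (sel (ones 224) ip6 33) = true := by decide +kernel

theorem rot6_33r : band (Rule.ok (2 * 0) EX RL ⟨6 :: [7, 6, 9, 7, 9, 7, 6, 9, 4, 4, 1, 2, 4, 2, 4, 1, 2, 1, 2, 9, 7], [6, 2], 13, true⟩) (lall (memL L) [7, 6, 9, 7, 9, 7, 6, 9, 4, 4, 1, 2, 4, 2, 4, 1, 2, 1, 2, 9, 7]) = true := by decide +kernel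

theorem rot6_34 : T.rot 6 [9, 4, 4, 1, 2, 4, 2, 4, 1, 2, 1, 2, 9, 7, 6, 7, 6, 9, 7, 9, 7] (sel (ones 224) ip6 34) = true := by decide +kernel

theorem rot6_34r : band (Rule.ok (2 * 0) EX RL ⟨6 :: [9, 4, 4, 1, 2, 4, 2, 4, 1, 2, 1, 2, 9, 7, 6, 7, 6, 9, 7, 9, 7], [6, 2, 0, 2, 0, 6, 2, 6, 2], 13, true⟩) (lall (memL L) [9, 4, 4, 1, 2, 4, 2, 4, 1, 2, 1, 2, 9, 7, 6, 7, 6, 9, 7, 9, 7]) = true := by decide +kernel

theorem rot6_35 : T.rot 6 [7, 6, 9, 7, 9, 7, 6, 9, 9, 4, 1, 2, 4, 2, 4, 1, 2, 1, 2, 4, 7] (sel (ones 224) ip6 35) = true := by decide +kernel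

theorem rot6_35r : band (Rule.ok (2 * 0) EX RL ⟨6 :: [7, 6, 9, 7, 9, 7, 6, 9, 9, 4, 1, 2, 4, 2, 4, 1, 2, 1, 2, 4, 7], [2], 13, false⟩) (lall (memL L) [7, 6, 9, 7, 9, 7, 6, 9, 9, 4, 1, 2, 4, 2, 4, 1, 2, 1, 2, 4, 7]) = true := by decide +kernel

theorem rot6_36 : T.rot 6 [9, 7, 9, 7, 6, 9, 9, 4, 1, 2, 4, 2, 4, 1, 2, 1, 2, 4, 7, 6, 7] (sel (ones 224) ip6 36) = true := by decide +kernel

theorem rot6_36r : band (Rule.ok (2 * 0) EX RL ⟨6 :: [9, 7, 9, 7, 6, 9, 9, 4, 1, 2, 4, 2, 4, 1, 2, 1, 2, 4, 7, 6, 7], [2, 0, 2], 13, false⟩) (lall (memL L) [9, 7, 9, 7, 6, 9, 9, 4, 1, 2, 4, 2, 4, 1, 2, 1, 2, 4, 7, 6, 7]) = true := by decide +kernel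

theorem ep0a : T.treePath [4] (Nat.shiftLeft 1 1) 1 = true := by decide +kernel

theorem ep0b : T.treePath [9] (Nat.shiftLeft 1 3) 1 = true := by decide +kernel

theorem ep0c : band (lall (fun z => Nat.ble z 255) ([4] ++ 6 :: [4])) (concl F IV 1421 0x5003a200000003 (encA ([4] ++ 6 :: [4]) 0)) = true := by decide +kernel

theorem ep0d : band (Rule.ok (2 * 0) EX [] ⟨lapp [9] [4], [], 0, false⟩) (band (lall (memL L) [4]) (lall (memL L) [9])) = true := by decide +kernel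

theorem ep2a : T.treePath [4, 2] (Nat.shiftLeft 1 5) 1 = true := by decide +kernel

theorem ep2b : T.treePath [9, 7] (Nat.shiftLeft 1 14) 1 = true := by decide +kernel

theorem ep2c : band (lall (fun z => Nat.ble z 255) ([4, 2] ++ 6 :: [2, 4])) (concl F IV 1421 0x140003600b180000400000005 (encA ([4, 2] ++ 6 :: [2, 4]) 0)) = true := by decide +kernel

theorem ep2d : band (Rule.ok (2 * 0) EX [] ⟨lapp [9, 7] [2, 4], [], 0, false⟩) (band (lall (memL L) [4, 2]) (lall (memL L) [9, 7])) = true := by decide +kernel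

theorem cov6 : T.cover 6 [(sel (ones 224) ip6 1), (sel (ones 224) ip6 2), (sel (ones 224) ip6 3), (sel (ones 224) ip6 4), (sel (ones 224) ip6 5), (sel (ones 224) ip6 6), (sel (ones 224) ip6 7), (sel (ones 224) ip6 8), (sel (ones 224) ip6 9), (sel (ones 224) ip6 10), (sel (ones 224) ip6 11), (sel (ones 224) ip6 12), (sel (ones 224) ip6 13), (sel (ones 224) ip6 14), (sel (ones 224) ip6 15), (sel (ones 224) ip6 16), (sel (ones 224) ip6 17), (sel (ones 224) ip6 18), (sel (ones 224) ip6 19), (sel (ones 224) ip6 20), (sel (ones 224) ip6 21), (sel (ones 224) ip6 22), (sel (ones 224) ip6 23), (sel (ones 224) ip6 24), (sel (ones 224) ip6 25), (sel (ones 224) ip6 26), (sel (ones 224) ip6 27), (sel (ones 224) ip6 28), (sel (ones 224) ip6 29), (sel (ones 224) ip6 30), (sel (ones 224) ip6 31), (sel (ones 224) ip6 32), (sel (ones 224) ip6 33), (sel (ones 224) ip6 34), (sel (ones 224) ip6 35), (sel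 (ones 224) ip6 36), (Nat.shiftLeft 1 1), (Nat.shiftLeft 1 5)] = true := by decide +kernel

theorem tl6 : T.treeLt 8 6 = true := by decide +kernel

theorem rot7_1 : T.rot 7 [2] (sel (ones 224) ip7 1) = true := by decide +kernel

theorem rot7_1r : band (Rule.ok (2 * 0) EX RL ⟨7 :: [2], [], 26, false⟩) (lall (memL L) [2]) = true := by decide +kernel

theorem rot7_2 : T.rot 7 [7, 7] (sel (ones 224) ip7 2) = true := by decide +kernel

theorem rot7_2r : band (Rule.ok (2 * 0) EX RL ⟨7 :: [7, 7], [], 16, false⟩) (lall (memL L) [7, 7]) = true := by decide +kernel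

theorem rot7_3 : T.rot 7 [8, 2, 3, 2, 8] (sel (ones 224) ip7 3) = true := by decide +kernel

theorem rot7_3r : band (Rule.ok (2 * 0) EX RL ⟨7 :: [8, 2, 3, 2, 8], [4], 1, true⟩) (lall (memL L) [8, 2, 3, 2, 8]) = true := by decide +kernel

theorem rot7_4 : T.rot 7 [8, 7, 3, 2, 3] (sel (ones 224) ip7 4) = true := by decide +kernel

theorem rot7_4r : band (Rule.ok (2 * 0) EX RL ⟨7 :: [8, 7, 3, 2, 3], [], 1, false⟩) (lall (memL L) [8, 7, 3, 2, 3]) = true := by decide +kernel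

theorem rot7_5 : T.rot 7 [3, 2, 3, 7, 8] (sel (ones 224) ip7 5) = true := by decide +kernel

theorem rot7_5r : band (Rule.ok (2 * 0) EX RL ⟨7 :: [3, 2, 3, 7, 8], [2, 4], 1, false⟩) (lall (memL L) [3, 2, 3, 7, 8]) = true := by decide +kernel

theorem rot7_6 : T.rot 7 [3, 7, 1, 2, 8, 2, 6] (sel (ones 224) ip7 6) = true := by decide +kernel

theorem rot7_6r : band (Rule.ok (2 * 0) EX RL ⟨7 :: [3, 7, 1, 2, 8, 2, 6], [0], 3, true⟩) (lall (memL L) [3, 7, 1, 2, 8, 2, 6]) = true := by decide +kernel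

theorem rot7_7 : T.rot 7 [1, 2, 8, 2, 6, 7, 3] (sel (ones 224) ip7 7) = true := by decide +kernel

theorem rot7_7r : band (Rule.ok (2 * 0) EX RL ⟨7 :: [1, 2, 8, 2, 6, 7, 3], [0, 2, 5], 3, true⟩) (lall (memL L) [1, 2, 8, 2, 6, 7, 3]) = true := by decide +kernel

theorem rot7_8 : T.rot 7 [3, 7, 6, 2, 8, 2, 1] (sel (ones 224) ip7 8) = true := by decide +kernel

theorem rot7_8r : band (Rule.ok (2 * 0) EX RL ⟨7 :: [3, 7, 6, 2, 8, 2, 1], [], 3, false⟩) (lall (memL L) [3, 7, 6, 2, 8, 2, 1]) = true := by decide +kernel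

theorem rot7_9 : T.rot 7 [6, 2, 8, 2, 1, 7, 3] (sel (ones 224) ip7 9) = true := by decide +kernel

theorem rot7_9r : band (Rule.ok (2 * 0) EX RL ⟨7 :: [6, 2, 8, 2, 1, 7, 3], [2, 5], 3, false⟩) (lall (memL L) [6, 2, 8, 2, 1, 7, 3]) = true := by decide +kernel

theorem rot7_10 : T.rot 7 [5, 3, 9, 3, 4, 8, 10] (sel (ones 224) ip7 10) = true := by decide +kernel

theorem rot7_10r : band (Rule.ok (2 * 0) EX RL ⟨7 :: [5, 3, 9, 3, 4, 8, 10], [8], 23, false⟩) (lall (memL L) [5, 3, 9, 3, 4, 8, 10]) = true := by decide +kernel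

theorem rot7_11 : T.rot 7 [6, 2, 6, 10, 4, 5, 1] (sel (ones 224) ip7 11) = true := by decide +kernel

theorem rot7_11r : band (Rule.ok (2 * 0) EX RL ⟨7 :: [6, 2, 6, 10, 4, 5, 1], [1], 25, true⟩) (lall (memL L) [6, 2, 6, 10, 4, 5, 1]) = true := by decide +kernel

theorem rot7_12 : T.rot 7 [1, 2, 6, 10, 9, 5, 1] (sel (ones 224) ip7 12) = true := by decide +kernel

theorem rot7_12r : band (Rule.ok (2 * 0) EX RL ⟨7 :: [1, 2, 6, 10, 9, 5, 1], [1, 2, 0, 3], 25, false⟩) (lall (memL L) [1, 2, 6, 10, 9, 5, 1]) = true := by decide +kernel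

theorem rot7_13 : T.rot 7 [6, 7, 6, 7, 1, 2, 1, 2, 1] (sel (ones 224) ip7 13) = true := by decide +kernel

theorem rot7_13r : band (Rule.ok (2 * 0) EX RL ⟨7 :: [6, 7, 6, 7, 1, 2, 1, 2, 1], [], 2, true⟩) (lall (memL L) [6, 7, 6, 7, 1, 2, 1, 2, 1]) = true := by decide +kernel

theorem rot7_14 : T.rot 7 [6, 7, 1, 2, 1, 2, 1, 7, 6] (sel (ones 224) ip7 14) = true := by decide +kernel

theorem rot7_14r : band (Rule.ok (2 * 0) EX RL ⟨7 :: [6, 7, 1, 2, 1, 2, 1, 7, 6], [2, 0], 2, true⟩) (lall (memL L) [6, 7, 1, 2, 1, 2, 1, 7, 6]) = true := by decide +kernel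

theorem rot7_15 : T.rot 7 [1, 2, 1, 2, 1, 7, 6, 7, 6] (sel (ones 224) ip7 15) = true := by decide +kernel

theorem rot7_15r : band (Rule.ok (2 * 0) EX RL ⟨7 :: [1, 2, 1, 2, 1, 7, 6, 7, 6], [2, 0, 2, 0], 2, true⟩) (lall (memL L) [1, 2, 1, 2, 1, 7, 6, 7, 6]) = true := by decide +kernel

theorem rot7_16 : T.rot 7 [9, 7, 9, 2, 4, 2, 4, 2, 9] (sel (ones 224) ip7 16) = true := by decide +kernel

theorem rot7_16r : band (Rule.ok (2 * 0) EX RL ⟨7 :: [9, 7, 9, 2, 4, 2, 4, 2, 9], [6], 5, true⟩) (lall (memL L) [9, 7, 9, 2, 4, 2, 4, 2, 9]) = true := by decide +kernel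

theorem rot7_17 : T.rot 7 [9, 2, 4, 2, 4, 2, 9, 7, 9] (sel (ones 224) ip7 17) = true := by decide +kernel

theorem rot7_17r : band (Rule.ok (2 * 0) EX RL ⟨7 :: [9, 2, 4, 2, 4, 2, 9, 7, 9], [6, 2, 6], 5, true⟩) (lall (memL L) [9, 2, 4, 2, 4, 2, 9, 7, 9]) = true := by decide +kernel

theorem rot7_18 : T.rot 7 [9, 7, 9, 7, 4, 2, 4, 2, 4] (sel (ones 224) ip7 18) = true := by decide +kernel

theorem rot7_18r : band (Rule.ok (2 * 0) EX RL ⟨7 :: [9, 7, 9, 7, 4, 2, 4, 2, 4], [], 5, false⟩) (lall (memL L) [9, 7, 9, 7, 4, 2, 4, 2, 4]) = true := by decide +kernel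

theorem rot7_19 : T.rot 7 [9, 7, 4, 2, 4, 2, 4, 7, 9] (sel (ones 224) ip7 19) = true := by decide +kernel

theorem rot7_19r : band (Rule.ok (2 * 0) EX RL ⟨7 :: [9, 7, 4, 2, 4, 2, 4, 7, 9], [2, 6], 5, false⟩) (lall (memL L) [9, 7, 4, 2, 4, 2, 4, 7, 9]) = true := by decide +kernel

theorem rot7_20 : T.rot 7 [4, 2, 4, 2, 4, 7, 9, 7, 9] (sel (ones 224) ip7 20) = true := by decide +kernel

theorem rot7_20r : band (Rule.ok (2 * 0) EX RL ⟨7 :: [4, 2, 4, 2, 4, 7, 9, 7, 9], [2, 6, 2, 6], 5, false⟩) (lall (memL L) [4, 2, 4, 2, 4, 7, 9, 7, 9]) = true := by decide +kernel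

theorem rot7_21 : T.rot 7 [3, 4, 8, 2, 8, 2, 9, 7, 3] (sel (ones 224) ip7 21) = true := by decide +kernel

theorem rot7_21r : band (Rule.ok (2 * 0) EX RL ⟨7 :: [3, 4, 8, 2, 8, 2, 9, 7, 3], [6, 2, 5], 14, true⟩) (lall (memL L) [3, 4, 8, 2, 8, 2, 9, 7, 3]) = true := by decide +kernel

theorem rot7_22 : T.rot 7 [3, 9, 8, 2, 8, 2, 4, 7, 3] (sel (ones 224) ip7 22) = true := by decide +kernel

theorem rot7_22r : band (Rule.ok (2 * 0) EX RL ⟨7 :: [3, 9, 8, 2, 8, 2, 4, 7, 3], [2, 5], 14, false⟩) (lall (memL L) [3, 9, 8, 2, 8, 2, 4, 7, 3]) = true := by decide +kernel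

theorem rot7_23 : T.rot 7 [4, 7, 4, 6, 2, 6, 2, 1, 4, 1] (sel (ones 224) ip7 23) = true := by decide +kernel

theorem rot7_23r : band (Rule.ok (2 * 0) EX RL ⟨7 :: [4, 7, 4, 6, 2, 6, 2, 1, 4, 1], [7, 1], 20, true⟩) (lall (memL L) [4, 7, 4, 6, 2, 6, 2, 1, 4, 1]) = true := by decide +kernel

theorem rot7_24 : T.rot 7 [4, 6, 2, 6, 2, 1, 4, 1, 7, 4] (sel (ones 224) ip7 24) = true := by decide +kernel

theorem rot7_24r : band (Rule.ok (2 * 0) EX RL ⟨7 :: [4, 6, 2, 6, 2, 1, 4, 1, 7, 4], [7, 1, 2, 7], 20, true⟩) (lall (memL L) [4, 6, 2, 6, 2, 1, 4, 1, 7, 4]) = true := by decide +kernel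

theorem rot7_25 : T.rot 7 [1, 7, 1, 9, 2, 9, 2, 6, 9, 6] (sel (ones 224) ip7 25) = true := by decide +kernel

theorem rot7_25r : band (Rule.ok (2 * 0) EX RL ⟨7 :: [1, 7, 1, 9, 2, 9, 2, 6, 9, 6], [0], 20, false⟩) (lall (memL L) [1, 7, 1, 9, 2, 9, 2, 6, 9, 6]) = true := by decide +kernel

theorem rot7_26 : T.rot 7 [1, 9, 2, 9, 2, 6, 9, 6, 7, 1] (sel (ones 224) ip7 26) = true := by decide +kernel

theorem rot7_26r : band (Rule.ok (2 * 0) EX RL ⟨7 :: [1, 9, 2, 9, 2, 6, 9, 6, 7, 1], [0, 2, 1], 20, false⟩) (lall (memL L) [1, 9, 2, 9, 2, 6, 9, 6, 7, 1]) = true := by decide +kernel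

theorem rot7_27 : T.rot 7 [6, 7, 4, 7, 6, 7, 6, 2, 1, 2, 9, 2, 1, 2, 9, 1, 4] (sel (ones 224) ip7 27) = true := by decide +kernel

theorem rot7_27r : band (Rule.ok (2 * 0) EX RL ⟨7 :: [6, 7, 4, 7, 6, 7, 6, 2, 1, 2, 9, 2, 1, 2, 9, 1, 4], [3, 1, 3, 6, 3, 1, 3], 9, true⟩) (lall (memL L) [6, 7, 4, 7, 6, 7, 6, 2, 1, 2, 9, 2, 1, 2, 9, 1, 4]) = true := by decide +kernel

theorem rot7_28 : T.rot 7 [6, 7, 6, 2, 1, 2, 9, 2, 1, 2, 9, 1, 4, 7, 6, 7, 4] (sel (ones 224) ip7 28) = true := by decide +kernel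

theorem rot7_28r : band (Rule.ok (2 * 0) EX RL ⟨7 :: [6, 7, 6, 2, 1, 2, 9, 2, 1, 2, 9, 1, 4, 7, 6, 7, 4], [3, 1, 3], 9, true⟩) (lall (memL L) [6, 7, 6, 2, 1, 2, 9, 2, 1, 2, 9, 1, 4, 7, 6, 7, 4]) = true := by decide +kernel

theorem rot7_29 : T.rot 7 [6, 7, 4, 7, 6, 7, 1, 2, 1, 2, 9, 2, 1, 2, 9, 6, 4] (sel (ones 224) ip7 29) = true := by decide +kernel

theorem rot7_29r : band (Rule.ok (2 * 0) EX RL ⟨7 :: [6, 7, 4, 7, 6, 7, 1, 2, 1, 2, 9, 2, 1, 2, 9, 6, 4], [0, 3, 1, 3, 6, 3, 1, 3], 9, false⟩) (lall (memL L) [6, 7, 4, 7, 6, 7, 1, 2, 1, 2, 9, 2, 1, 2, 9, 6, 4]) = true := by decide +kernel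

theorem rot7_30 : T.rot 7 [6, 7, 1, 2, 1, 2, 9, 2, 1, 2, 9, 6, 4, 7, 6, 7, 4] (sel (ones 224) ip7 30) = true := by decide +kernel

theorem rot7_30r : band (Rule.ok (2 * 0) EX RL ⟨7 :: [6, 7, 1, 2, 1, 2, 9, 2, 1, 2, 9, 6, 4, 7, 6, 7, 4], [0, 3, 1, 3], 9, false⟩) (lall (memL L) [6, 7, 1, 2, 1, 2, 9, 2, 1, 2, 9, 6, 4, 7, 6, 7, 4]) = true := by decide +kernel

theorem rot7_31 : T.rot 7 [6, 7, 4, 7, 6, 7, 2, 2, 1, 2, 9, 2, 1, 2, 9, 7, 4] (sel (ones 224) ip7 31) = true := by decide +kernel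

theorem rot7_31r : band (Rule.ok (2 * 0) EX RL ⟨7 :: [6, 7, 4, 7, 6, 7, 2, 2, 1, 2, 9, 2, 1, 2, 9, 7, 4], [1, 3, 6, 3, 1, 3], 10, false⟩) (lall (memL L) [6, 7, 4, 7, 6, 7, 2, 2, 1, 2, 9, 2, 1, 2, 9, 7, 4]) = true := by decide +kernel

theorem rot7_32 : T.rot 7 [6, 7, 2, 2, 1, 2, 9, 2, 1, 2, 9, 7, 4, 7, 6, 7, 4] (sel (ones 224) ip7 32) = true := by decide +kernel

theorem rot7_32r : band (Rule.ok (2 * 0) EX RL ⟨7 :: [6, 7, 2, 2, 1, 2, 9, 2, 1, 2, 9, 7, 4, 7, 6, 7, 4], [1, 3], 10, false⟩) (lall (memL L) [6, 7, 2, 2, 1, 2, 9, 2, 1, 2, 9, 7, 4, 7, 6, 7, 4]) = true := by decide +kernel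

theorem rot7_33 : T.rot 7 [6, 7, 8, 2, 1, 2, 9, 2, 1, 2, 9, 3, 4, 7, 6, 7, 4] (sel (ones 224) ip7 33) = true := by decide +kernel

theorem rot7_33r : band (Rule.ok (2 * 0) EX RL ⟨7 :: [6, 7, 8, 2, 1, 2, 9, 2, 1, 2, 9, 3, 4, 7, 6, 7, 4], [3, 1, 3], 11, true⟩) (lall (memL L) [6, 7, 8, 2, 1, 2, 9, 2, 1, 2, 9, 3, 4, 7, 6, 7, 4]) = true := by decide +kernel

theorem rot7_34 : T.rot 7 [8, 2, 1, 2, 9, 2, 1, 2, 9, 3, 4, 7, 6, 7, 4, 7, 6] (sel (ones 224) ip7 34) = true := by decide +kernel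

theorem rot7_34r : band (Rule.ok (2 * 0) EX RL ⟨7 :: [8, 2, 1, 2, 9, 2, 1, 2, 9, 3, 4, 7, 6, 7, 4, 7, 6], [3], 11, true⟩) (lall (memL L) [8, 2, 1, 2, 9, 2, 1, 2, 9, 3, 4, 7, 6, 7, 4, 7, 6]) = true := by decide +kernel

theorem rot7_35 : T.rot 7 [6, 7, 4, 7, 6, 7, 3, 2, 1, 2, 9, 2, 1, 2, 9, 8, 4] (sel (ones 224) ip7 35) = true := by decide +kernel

theorem rot7_35r : band (Rule.ok (2 * 0) EX RL ⟨7 :: [6, 7, 4, 7, 6, 7, 3, 2, 1, 2, 9, 2, 1, 2, 9, 8, 4], [4, 3, 1, 3, 6, 3, 1, 3], 11, false⟩) (lall (memL L) [6, 7, 4, 7, 6, 7, 3, 2, 1, 2, 9, 2, 1, 2, 9, 8, 4]) = true := by decide +kernel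

theorem rot7_36 : T.rot 7 [3, 2, 1, 2, 9, 2, 1, 2, 9, 8, 4, 7, 6, 7, 4, 7, 6] (sel (ones 224) ip7 36) = true := by decide +kernel

theorem rot7_36r : band (Rule.ok (2 * 0) EX RL ⟨7 :: [3, 2, 1, 2, 9, 2, 1, 2, 9, 8, 4, 7, 6, 7, 4, 7, 6], [4, 3], 11, false⟩) (lall (memL L) [3, 2, 1, 2, 9, 2, 1, 2, 9, 8, 4, 7, 6, 7, 4, 7, 6]) = true := by decide +kernel

theorem rot7_37 : T.rot 7 [6, 7, 6, 9, 7, 9, 7, 6, 9, 4, 4, 1, 2, 4, 2, 4, 1, 2, 1, 2, 9] (sel (ones 224) ip7 37) = true := by decide +kernel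

theorem rot7_37r : band (Rule.ok (2 * 0) EX RL ⟨7 :: [6, 7, 6, 9, 7, 9, 7, 6, 9, 4, 4, 1, 2, 4, 2, 4, 1, 2, 1, 2, 9], [6], 13, true⟩) (lall (memL L) [6, 7, 6, 9, 7, 9, 7, 6, 9, 4, 4, 1, 2, 4, 2, 4, 1, 2, 1, 2, 9]) = true := by decide +kernel

theorem rot7_38 : T.rot 7 [9, 7, 6, 9, 4, 4, 1, 2, 4, 2, 4, 1, 2, 1, 2, 9, 7, 6, 7, 6, 9] (sel (ones 224) ip7 38) = true := by decide +kernel

theorem rot7_38r : band (Rule.ok (2 * 0) EX RL ⟨7 :: [9, 7, 6, 9, 4, 4, 1, 2, 4, 2, 4, 1, 2, 1, 2, 9, 7, 6, 7, 6, 9], [6, 2, 0, 2, 0, 6], 13, true⟩) (lall (memL L) [9, 7, 6, 9, 4, 4, 1, 2, 4, 2, 4, 1, 2, 1, 2, 9, 7, 6, 7, 6, 9]) = true := by decide +kernel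

theorem rot7_39 : T.rot 7 [8, 6, 7, 6, 7, 4, 2, 1, 2, 1, 3, 2, 9, 8, 9, 8, 6, 9, 9, 4, 1, 3, 4, 3, 4] (sel (ones 224) ip7 39) = true := by decide +kernel

theorem rot7_39r : band (Rule.ok (2 * 0) EX RL ⟨7 :: [8, 6, 7, 6, 7, 4, 2, 1, 2, 1, 3, 2, 9, 8, 9, 8, 6, 9, 9, 4, 1, 3, 4, 3, 4], [6, 3, 1, 3, 1, 5, 3], 12, false⟩) (lall (memL L) [8, 6, 7, 6, 7, 4, 2, 1, 2, 1, 3, 2, 9, 8, 9, 8, 6, 9, 9, 4, 1, 3, 4, 3, 4]) = true := by decide +kernel

theorem rot7_40 : T.rot 7 [4, 2, 1, 2, 1, 3, 2, 9, 8, 9, 8, 6, 9, 9, 4, 1, 3, 4, 3, 4, 7, 8, 6, 7, 6] (sel (ones 224) ip7 40) = true := by decide +kernel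

theorem rot7_40r : band (Rule.ok (2 * 0) EX RL ⟨7 :: [4, 2, 1, 2, 1, 3, 2, 9, 8, 9, 8, 6, 9, 9, 4, 1, 3, 4, 3, 4, 7, 8, 6, 7, 6], [6, 3], 12, false⟩) (lall (memL L) [4, 2, 1, 2, 1, 3, 2, 9, 8, 9, 8, 6, 9, 9, 4, 1, 3, 4, 3, 4, 7, 8, 6, 7, 6]) = true := by decide +kernel

theorem cov7 : T.cover 7 [(sel (ones 224) ip7 1), (sel (ones 224) ip7 2), (sel (ones 224) ip7 3), (sel (ones 224) ip7 4), (sel (ones 224) ip7 5), (sel (ones 224) ip7 6), (sel (ones 224) ip7 7), (sel (ones 224) ip7 8), (sel (ones 224) ip7 9), (sel (ones 224) ip7 10), (sel (ones 224) ip7 11), (sel (ones 224) ip7 12), (sel (ones 224) ip7 13), (sel (ones 224) ip7 14), (sel (ones 224) ip7 15), (sel (ones 224) ip7 16), (sel (ones 224) ip7 17), (sel (ones 224) ip7 18), (sel (ones 224) ip7 19), (sel (ones 224) ip7 20), (sel (ones 224) ip7 21), (sel (ones 224) ip7 22), (sel (ones 224) ip7 23), (sel (ones 224) ip7 24), (sel (ones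 224) ip7 25), (sel (ones 224) ip7 26), (sel (ones 224) ip7 27), (sel (ones 224) ip7 28), (sel (ones 224) ip7 29), (sel (ones 224) ip7 30), (sel (ones 224) ip7 31), (sel (ones 224) ip7 32), (sel (ones 224) ip7 33), (sel (ones 224) ip7 34), (sel (ones 224) ip7 35), (sel (ones 224) ip7 36), (sel (ones 224) ip7 37), (sel (ones 224) ip7 38), (sel (ones 224) ip7 39), (sel (ones 224) ip7 40)] = true := by decide +kernel

theorem tl7 : T.treeLt 8 7 = true := by decide +kernel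

theorem rot8_1 : T.rot 8 [3] (sel (ones 224) ip8 1) = true := by decide +kernel

theorem rot8_1r : band (Rule.ok (2 * 0) EX RL ⟨8 :: [3], [], 26, false⟩) (lall (memL L) [3]) = true := by decide +kernel

theorem rot8_2 : T.rot 8 [8, 8] (sel (ones 224) ip8 2) = true := by decide +kernel

theorem rot8_2r : band (Rule.ok (2 * 0) EX RL ⟨8 :: [8, 8], [], 17, false⟩) (lall (memL L) [8, 8]) = true := by decide +kernel

theorem rot8_3 : T.rot 8 [6, 3, 1] (sel (ones 224) ip8 3) = true := by decide +kernel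

theorem rot8_3r : band (Rule.ok (2 * 0) EX RL ⟨8 :: [6, 3, 1], [], 0, true⟩) (lall (memL L) [6, 3, 1]) = true := by decide +kernel

theorem rot8_4 : T.rot 8 [1, 3, 6] (sel (ones 224) ip8 4) = true := by decide +kernel

theorem rot8_4r : band (Rule.ok (2 * 0) EX RL ⟨8 :: [1, 3, 6], [0], 0, false⟩) (lall (memL L) [1, 3, 6]) = true := by decide +kernel

theorem rot8_5 : T.rot 8 [5, 8, 10] (sel (ones 224) ip8 5) = true := by decide +kernel

theorem rot8_5r : band (Rule.ok (2 * 0) EX RL ⟨8 :: [5, 8, 10], [8], 24, false⟩) (lall (memL L) [5, 8, 10]) = true := by decide +kernel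

theorem rot8_6 : T.rot 8 [10, 8, 5] (sel (ones 224) ip8 6) = true := by decide +kernel

theorem rot8_6r : band (Rule.ok (2 * 0) EX RL ⟨8 :: [10, 8, 5], [5], 24, false⟩) (lall (memL L) [10, 8, 5]) = true := by decide +kernel

theorem rot8_7 : T.rot 8 [7, 8, 2, 3, 2] (sel (ones 224) ip8 7) = true := by decide +kernel

theorem rot8_7r : band (Rule.ok (2 * 0) EX RL ⟨8 :: [7, 8, 2, 3, 2], [], 1, true⟩) (lall (memL L) [7, 8, 2, 3, 2]) = true := by decide +kernel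

theorem rot8_8 : T.rot 8 [2, 3, 2, 8, 7] (sel (ones 224) ip8 8) = true := by decide +kernel

theorem rot8_8r : band (Rule.ok (2 * 0) EX RL ⟨8 :: [2, 3, 2, 8, 7], [4, 2], 1, true⟩) (lall (memL L) [2, 3, 2, 8, 7]) = true := by decide +kernel

theorem rot8_9 : T.rot 8 [7, 3, 2, 3, 7] (sel (ones 224) ip8 9) = true := by decide +kernel

theorem rot8_9r : band (Rule.ok (2 * 0) EX RL ⟨8 :: [7, 3, 2, 3, 7], [2], 1, false⟩) (lall (memL L) [7, 3, 2, 3, 7]) = true := by decide +kernel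

theorem rot8_10 : T.rot 8 [2, 6, 7, 3, 7, 1, 2] (sel (ones 224) ip8 10) = true := by decide +kernel

theorem rot8_10r : band (Rule.ok (2 * 0) EX RL ⟨8 :: [2, 6, 7, 3, 7, 1, 2], [2, 5], 3, true⟩) (lall (memL L) [2, 6, 7, 3, 7, 1, 2]) = true := by decide +kernel

theorem rot8_11 : T.rot 8 [2, 1, 7, 3, 7, 6, 2] (sel (ones 224) ip8 11) = true := by decide +kernel

theorem rot8_11r : band (Rule.ok (2 * 0) EX RL ⟨8 :: [2, 1, 7, 3, 7, 6, 2], [0, 2, 5], 3, false⟩) (lall (memL L) [2, 1, 7, 3, 7, 6, 2]) = true := by decide +kernel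

theorem rot8_12 : T.rot 8 [4, 8, 10, 2, 5, 3, 9] (sel (ones 224) ip8 12) = true := by decide +kernel

theorem rot8_12r : band (Rule.ok (2 * 0) EX RL ⟨8 :: [4, 8, 10, 2, 5, 3, 9], [5, 6], 23, true⟩) (lall (memL L) [4, 8, 10, 2, 5, 3, 9]) = true := by decide +kernel

theorem rot8_13 : T.rot 8 [10, 2, 5, 3, 9, 8, 4] (sel (ones 224) ip8 13) = true := by decide +kernel

theorem rot8_13r : band (Rule.ok (2 * 0) EX RL ⟨8 :: [10, 2, 5, 3, 9, 8, 4], [8, 2, 9, 5], 23, true⟩) (lall (memL L) [10, 2, 5, 3, 9, 8, 4]) = true := by decide +kernel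

theorem rot8_14 : T.rot 8 [10, 7, 5, 3, 9, 3, 4] (sel (ones 224) ip8 14) = true := by decide +kernel

theorem rot8_14r : band (Rule.ok (2 * 0) EX RL ⟨8 :: [10, 7, 5, 3, 9, 3, 4], [5], 23, false⟩) (lall (memL L) [10, 7, 5, 3, 9, 3, 4]) = true := by decide +kernel

theorem rot8_15 : T.rot 8 [9, 8, 9, 3, 4, 3, 4, 3, 9] (sel (ones 224) ip8 15) = true := by decide +kernel

theorem rot8_15r : band (Rule.ok (2 * 0) EX RL ⟨8 :: [9, 8, 9, 3, 4, 3, 4, 3, 9], [6], 6, true⟩) (lall (memL L) [9, 8, 9, 3, 4, 3, 4, 3, 9]) = true := by decide +kernel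

theorem rot8_16 : T.rot 8 [9, 3, 4, 3, 4, 3, 9, 8, 9] (sel (ones 224) ip8 16) = true := by decide +kernel

theorem rot8_16r : band (Rule.ok (2 * 0) EX RL ⟨8 :: [9, 3, 4, 3, 4, 3, 9, 8, 9], [6, 4, 6], 6, true⟩) (lall (memL L) [9, 3, 4, 3, 4, 3, 9, 8, 9]) = true := by decide +kernel

theorem rot8_17 : T.rot 8 [9, 8, 9, 8, 4, 3, 4, 3, 4] (sel (ones 224) ip8 17) = true := by decide +kernel

theorem rot8_17r : band (Rule.ok (2 * 0) EX RL ⟨8 :: [9, 8, 9, 8, 4, 3, 4, 3, 4], [], 6, false⟩) (lall (memL L) [9, 8, 9, 8, 4, 3, 4, 3, 4]) = true := by decide +kernel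

theorem rot8_18 : T.rot 8 [9, 8, 4, 3, 4, 3, 4, 8, 9] (sel (ones 224) ip8 18) = true := by decide +kernel

theorem rot8_18r : band (Rule.ok (2 * 0) EX RL ⟨8 :: [9, 8, 4, 3, 4, 3, 4, 8, 9], [4, 6], 6, false⟩) (lall (memL L) [9, 8, 4, 3, 4, 3, 4, 8, 9]) = true := by decide +kernel

theorem rot8_19 : T.rot 8 [4, 3, 4, 3, 4, 8, 9, 8, 9] (sel (ones 224) ip8 19) = true := by decide +kernel

theorem rot8_19r : band (Rule.ok (2 * 0) EX RL ⟨8 :: [4, 3, 4, 3, 4, 8, 9, 8, 9], [4, 6, 4, 6], 6, false⟩) (lall (memL L) [4, 3, 4, 3, 4, 8, 9, 8, 9]) = true := by decide +kernel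

theorem rot8_20 : T.rot 8 [2, 9, 7, 3, 7, 3, 4, 8, 2] (sel (ones 224) ip8 20) = true := by decide +kernel

theorem rot8_20r : band (Rule.ok (2 * 0) EX RL ⟨8 :: [2, 9, 7, 3, 7, 3, 4, 8, 2], [2, 5], 14, true⟩) (lall (memL L) [2, 9, 7, 3, 7, 3, 4, 8, 2]) = true := by decide +kernel

theorem rot8_21 : T.rot 8 [2, 8, 2, 4, 7, 3, 7, 3, 9] (sel (ones 224) ip8 21) = true := by decide +kernel

theorem rot8_21r : band (Rule.ok (2 * 0) EX RL ⟨8 :: [2, 8, 2, 4, 7, 3, 7, 3, 9], [6, 2, 5, 2, 5], 14, false⟩) (lall (memL L) [2, 8, 2, 4, 7, 3, 7, 3, 9]) = true := by decide +kernel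

theorem rot8_22 : T.rot 8 [2, 4, 7, 3, 7, 3, 9, 8, 2] (sel (ones 224) ip8 22) = true := by decide +kernel

theorem rot8_22r : band (Rule.ok (2 * 0) EX RL ⟨8 :: [2, 4, 7, 3, 7, 3, 9, 8, 2], [6, 2, 5], 14, false⟩) (lall (memL L) [2, 4, 7, 3, 7, 3, 9, 8, 2]) = true := by decide +kernel

theorem rot8_23 : T.rot 8 [9, 8, 6, 9, 4, 4, 1, 3, 4, 3, 4, 7, 8, 6, 7, 6, 7, 9, 2, 1, 2, 1, 3, 2, 9] (sel (ones 224) ip8 23) = true := by decide +kernel

theorem rot8_23r : band (Rule.ok (2 * 0) EX RL ⟨8 :: [9, 8, 6, 9, 4, 4, 1, 3, 4, 3, 4, 7, 8, 6, 7, 6, 7, 9, 2, 1, 2, 1, 3, 2, 9], [6, 3, 1, 3, 1, 5, 3, 6], 12, true⟩) (lall (memL L) [9, 8, 6, 9, 4, 4, 1, 3, 4, 3, 4, 7, 8, 6, 7, 6, 7, 9, 2, 1, 2, 1, 3, 2, 9]) = true := by decide +kernel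

theorem rot8_24 : T.rot 8 [6, 7, 6, 7, 9, 2, 1, 2, 1, 3, 2, 9, 8, 9, 8, 6, 9, 4, 4, 1, 3, 4, 3, 4, 7] (sel (ones 224) ip8 24) = true := by decide +kernel

theorem rot8_24r : band (Rule.ok (2 * 0) EX RL ⟨8 :: [6, 7, 6, 7, 9, 2, 1, 2, 1, 3, 2, 9, 8, 9, 8, 6, 9, 4, 4, 1, 3, 4, 3, 4, 7], [3, 1, 3, 1, 5], 12, true⟩) (lall (memL L) [6, 7, 6, 7, 9, 2, 1, 2, 1, 3, 2, 9, 8, 9, 8, 6, 9, 4, 4, 1, 3, 4, 3, 4, 7]) = true := by decide +kernel

theorem rot8_25 : T.rot 8 [9, 8, 6, 9, 9, 4, 1, 3, 4, 3, 4, 7, 8, 6, 7, 6, 7, 4, 2, 1, 2, 1, 3, 2, 9] (sel (ones 224) ip8 25) = true := by decide +kernel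

theorem rot8_25r : band (Rule.ok (2 * 0) EX RL ⟨8 :: [9, 8, 6, 9, 9, 4, 1, 3, 4, 3, 4, 7, 8, 6, 7, 6, 7, 4, 2, 1, 2, 1, 3, 2, 9], [3, 1, 3, 1, 5, 3, 6], 12, false⟩) (lall (memL L) [9, 8, 6, 9, 9, 4, 1, 3, 4, 3, 4, 7, 8, 6, 7, 6, 7, 4, 2, 1, 2, 1, 3, 2, 9]) = true := by decide +kernel

theorem cov8 : T.cover 8 [(sel (ones 224) ip8 1), (sel (ones 224) ip8 2), (sel (ones 224) ip8 3), (sel (ones 224) ip8 4), (sel (ones 224) ip8 5), (sel (ones 224) ip8 6), (sel (ones 224) ip8 7), (sel (ones 224) ip8 8), (sel (ones 224) ip8 9), (sel (ones 224) ip8 10), (sel (ones 224) ip8 11), (sel (ones 224) ip8 12), (sel (ones 224) ip8 13), (sel (ones 224) ip8 14), (sel (ones 224) ip8 15), (sel (ones 224) ip8 16), (sel (ones 224) ip8 17), (sel (ones 224) ip8 18), (sel (ones 224) ip8 19), (sel (ones 224) ip8 20), (sel (ones 224) ip8 21), (sel (ones 224) ip8 22), (sel (ones 224) ip8 23), (sel (ones 224) ip8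 24), (sel (ones 224) ip8 25)] = true := by decide +kernel

theorem tl8 : T.treeLt 8 8 = true := by decide +kernel

theorem rot9_1 : T.rot 9 [4] (sel (ones 224) ip9 1) = true := by decide +kernel

theorem rot9_1r : band (Rule.ok (2 * 0) EX RL ⟨9 :: [4], [], 26, false⟩) (lall (memL L) [4]) = true := by decide +kernel

theorem rot9_2 : T.rot 9 [9, 9] (sel (ones 224) ip9 2) = true := by decide +kernel

theorem rot9_2r : band (Rule.ok (2 * 0) EX RL ⟨9 :: [9, 9], [], 18, false⟩) (lall (memL L) [9, 9]) = true := by decide +kernel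

theorem rot9_3 : T.rot 9 [6, 9, 1, 4, 1] (sel (ones 224) ip9 3) = true := by decide +kernel

theorem rot9_3r : band (Rule.ok (2 * 0) EX RL ⟨9 :: [6, 9, 1, 4, 1], [], 4, true⟩) (lall (memL L) [6, 9, 1, 4, 1]) = true := by decide +kernel

theorem rot9_4 : T.rot 9 [1, 4, 1, 9, 6] (sel (ones 224) ip9 4) = true := by decide +kernel

theorem rot9_4r : band (Rule.ok (2 * 0) EX RL ⟨9 :: [1, 4, 1, 9, 6], [6, 0], 4, true⟩) (lall (memL L) [1, 4, 1, 9, 6]) = true := by decide +kernel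

theorem rot9_5 : T.rot 9 [6, 4, 1, 4, 6] (sel (ones 224) ip9 5) = true := by decide +kernel

theorem rot9_5r : band (Rule.ok (2 * 0) EX RL ⟨9 :: [6, 4, 1, 4, 6], [0], 4, false⟩) (lall (memL L) [6, 4, 1, 4, 6]) = true := by decide +kernel

theorem rot9_6 : T.rot 9 [8, 4, 8, 10, 2, 5, 3] (sel (ones 224) ip9 6) = true := by decide +kernel

theorem rot9_6r : band (Rule.ok (2 * 0) EX RL ⟨9 :: [8, 4, 8, 10, 2, 5, 3], [5], 23, true⟩) (lall (memL L) [8, 4, 8, 10, 2, 5, 3]) = true := by decide +kernel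

theorem rot9_7 : T.rot 9 [3, 4, 8, 10, 7, 5, 3] (sel (ones 224) ip9 7) = true := by decide +kernel

theorem rot9_7r : band (Rule.ok (2 * 0) EX RL ⟨9 :: [3, 4, 8, 10, 7, 5, 3], [5, 6, 4, 7], 23, false⟩) (lall (memL L) [3, 4, 8, 10, 7, 5, 3]) = true := by decide +kernel

theorem rot9_8 : T.rot 9 [5, 1, 7, 1, 2, 6, 10] (sel (ones 224) ip9 8) = true := by decide +kernel

theorem rot9_8r : band (Rule.ok (2 * 0) EX RL ⟨9 :: [5, 1, 7, 1, 2, 6, 10], [8], 25, false⟩) (lall (memL L) [5, 1, 7, 1, 2, 6, 10]) = true := by decide +kernel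

theorem rot9_9 : T.rot 9 [7, 9, 7, 9, 2, 4, 2, 4, 2] (sel (ones 224) ip9 9) = true := by decide +kernel

theorem rot9_9r : band (Rule.ok (2 * 0) EX RL ⟨9 :: [7, 9, 7, 9, 2, 4, 2, 4, 2], [], 5, true⟩) (lall (memL L) [7, 9, 7, 9, 2, 4, 2, 4, 2]) = true := by decide +kernel

theorem rot9_10 : T.rot 9 [7, 9, 2, 4, 2, 4, 2, 9, 7] (sel (ones 224) ip9 10) = true := by decide +kernel

theorem rot9_10r : band (Rule.ok (2 * 0) EX RL ⟨9 :: [7, 9, 2, 4, 2, 4, 2, 9, 7], [6, 2], 5, true⟩) (lall (memL L) [7, 9, 2, 4, 2, 4, 2, 9, 7]) = true := by decide +kernel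

theorem rot9_11 : T.rot 9 [2, 4, 2, 4, 2, 9, 7, 9, 7] (sel (ones 224) ip9 11) = true := by decide +kernel

theorem rot9_11r : band (Rule.ok (2 * 0) EX RL ⟨9 :: [2, 4, 2, 4, 2, 9, 7, 9, 7], [6, 2, 6, 2], 5, true⟩) (lall (memL L) [2, 4, 2, 4, 2, 9, 7, 9, 7]) = true := by decide +kernel

theorem rot9_12 : T.rot 9 [7, 9, 7, 4, 2, 4, 2, 4, 7] (sel (ones 224) ip9 12) = true := by decide +kernel

theorem rot9_12r : band (Rule.ok (2 * 0) EX RL ⟨9 :: [7, 9, 7, 4, 2, 4, 2, 4, 7], [2], 5, false⟩) (lall (memL L) [7, 9, 7, 4, 2, 4, 2, 4, 7]) = true := by decide +kernel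

theorem rot9_13 : T.rot 9 [7, 4, 2, 4, 2, 4, 7, 9, 7] (sel (ones 224) ip9 13) = true := by decide +kernel

theorem rot9_13r : band (Rule.ok (2 * 0) EX RL ⟨9 :: [7, 4, 2, 4, 2, 4, 7, 9, 7], [2, 6, 2], 5, false⟩) (lall (memL L) [7, 4, 2, 4, 2, 4, 7, 9, 7]) = true := by decide +kernel

theorem rot9_14 : T.rot 9 [8, 9, 8, 9, 3, 4, 3, 4, 3] (sel (ones 224) ip9 14) = true := by decide +kernel

theorem rot9_14r : band (Rule.ok (2 * 0) EX RL ⟨9 :: [8, 9, 8, 9, 3, 4, 3, 4, 3], [], 6, true⟩) (lall (memL L) [8, 9, 8, 9, 3, 4, 3, 4, 3]) = true := by decide +kernel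

theorem rot9_15 : T.rot 9 [8, 9, 3, 4, 3, 4, 3, 9, 8] (sel (ones 224) ip9 15) = true := by decide +kernel

theorem rot9_15r : band (Rule.ok (2 * 0) EX RL ⟨9 :: [8, 9, 3, 4, 3, 4, 3, 9, 8], [6, 4], 6, true⟩) (lall (memL L) [8, 9, 3, 4, 3, 4, 3, 9, 8]) = true := by decide +kernel

theorem rot9_16 : T.rot 9 [3, 4, 3, 4, 3, 9, 8, 9, 8] (sel (ones 224) ip9 16) = true := by decide +kernel

theorem rot9_16r : band (Rule.ok (2 * 0) EX RL ⟨9 :: [3, 4, 3, 4, 3, 9, 8, 9, 8], [6, 4, 6, 4], 6, true⟩) (lall (memL L) [3, 4, 3, 4, 3, 9, 8, 9, 8]) = true := by decide +kernel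

theorem rot9_17 : T.rot 9 [8, 9, 8, 4, 3, 4, 3, 4, 8] (sel (ones 224) ip9 17) = true := by decide +kernel

theorem rot9_17r : band (Rule.ok (2 * 0) EX RL ⟨9 :: [8, 9, 8, 4, 3, 4, 3, 4, 8], [4], 6, false⟩) (lall (memL L) [8, 9, 8, 4, 3, 4, 3, 4, 8]) = true := by decide +kernel

theorem rot9_18 : T.rot 9 [8, 4, 3, 4, 3, 4, 8, 9, 8] (sel (ones 224) ip9 18) = true := by decide +kernel

theorem rot9_18r : band (Rule.ok (2 * 0) EX RL ⟨9 :: [8, 4, 3, 4, 3, 4, 8, 9, 8], [4, 6, 4], 6, false⟩) (lall (memL L) [8, 4, 3, 4, 3, 4, 8, 9, 8]) = true := by decide +kernel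

theorem rot9_19 : T.rot 9 [1, 9, 2, 4, 6, 4, 6, 7, 1] (sel (ones 224) ip9 19) = true := by decide +kernel

theorem rot9_19r : band (Rule.ok (2 * 0) EX RL ⟨9 :: [1, 9, 2, 4, 6, 4, 6, 7, 1], [2, 1], 7, true⟩) (lall (memL L) [1, 9, 2, 4, 6, 4, 6, 7, 1]) = true := by decide +kernel

theorem rot9_20 : T.rot 9 [2, 4, 6, 4, 6, 7, 1, 9, 1] (sel (ones 224) ip9 20) = true := by decide +kernel

theorem rot9_20r : band (Rule.ok (2 * 0) EX RL ⟨9 :: [2, 4, 6, 4, 6, 7, 1, 9, 1], [2, 1, 6, 1], 7, true⟩) (lall (memL L) [2, 4, 6, 4, 6, 7, 1, 9, 1]) = true := by decide +kernel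

theorem rot9_21 : T.rot 9 [1, 9, 7, 4, 6, 4, 6, 2, 1] (sel (ones 224) ip9 21) = true := by decide +kernel

theorem rot9_21r : band (Rule.ok (2 * 0) EX RL ⟨9 :: [1, 9, 7, 4, 6, 4, 6, 2, 1], [1], 7, false⟩) (lall (memL L) [1, 9, 7, 4, 6, 4, 6, 2, 1]) = true := by decide +kernel

theorem rot9_22 : T.rot 9 [7, 4, 6, 4, 6, 2, 1, 9, 1] (sel (ones 224) ip9 22) = true := by decide +kernel

theorem rot9_22r : band (Rule.ok (2 * 0) EX RL ⟨9 :: [7, 4, 6, 4, 6, 2, 1, 9, 1], [1, 6, 1], 7, false⟩) (lall (memL L) [7, 4, 6, 4, 6, 2, 1, 9, 1]) = true := by decide +kernel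

theorem rot9_23 : T.rot 9 [1, 9, 3, 4, 6, 4, 6, 8, 1] (sel (ones 224) ip9 23) = true := by decide +kernel

theorem rot9_23r : band (Rule.ok (2 * 0) EX RL ⟨9 :: [1, 9, 3, 4, 6, 4, 6, 8, 1], [4, 1], 8, true⟩) (lall (memL L) [1, 9, 3, 4, 6, 4, 6, 8, 1]) = true := by decide +kernel

theorem rot9_24 : T.rot 9 [2, 9, 2, 6, 9, 6, 7, 1, 7, 1] (sel (ones 224) ip9 24) = true := by decide +kernel

theorem rot9_24r : band (Rule.ok (2 * 0) EX RL ⟨9 :: [2, 9, 2, 6, 9, 6, 7, 1, 7, 1], [0, 2, 1, 2, 1], 20, false⟩) (lall (memL L) [2, 9, 2, 6, 9, 6, 7, 1, 7, 1]) = true := by decide +kernel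

theorem rot9_25 : T.rot 9 [2, 6, 9, 6, 7, 1, 7, 1, 9, 2] (sel (ones 224) ip9 25) = true := by decide +kernel

theorem rot9_25r : band (Rule.ok (2 * 0) EX RL ⟨9 :: [2, 6, 9, 6, 7, 1, 7, 1, 9, 2], [7, 1, 2, 7], 20, false⟩) (lall (memL L) [2, 6, 9, 6, 7, 1, 7, 1, 9, 2]) = true := by decide +kernel

theorem rot9_26 : T.rot 9 [6, 7, 1, 7, 1, 9, 2, 9, 2, 6] (sel (ones 224) ip9 26) = true := by decide +kernel

theorem rot9_26r : band (Rule.ok (2 * 0) EX RL ⟨9 :: [6, 7, 1, 7, 1, 9, 2, 9, 2, 6], [7], 20, false⟩) (lall (memL L) [6, 7, 1, 7, 1, 9, 2, 9, 2, 6]) = true := by decide +kernel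

theorem rot9_27 : T.rot 9 [2, 1, 2, 9, 1, 4, 7, 6, 7, 4, 7, 6, 7, 6, 2, 1, 2] (sel (ones 224) ip9 27) = true := by decide +kernel

theorem rot9_27r : band (Rule.ok (2 * 0) EX RL ⟨9 :: [2, 1, 2, 9, 1, 4, 7, 6, 7, 4, 7, 6, 7, 6, 2, 1, 2], [0, 3, 1, 3], 9, true⟩) (lall (memL L) [2, 1, 2, 9, 1, 4, 7, 6, 7, 4, 7, 6, 7, 6, 2, 1, 2]) = true := by decide +kernel

theorem rot9_28 : T.rot 9 [2, 4, 7, 6, 7, 4, 7, 6, 7, 7, 2, 1, 2, 9, 2, 1, 2] (sel (ones 224) ip9 28) = true := by decide +kernel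

theorem rot9_28r : band (Rule.ok (2 * 0) EX RL ⟨9 :: [2, 4, 7, 6, 7, 4, 7, 6, 7, 7, 2, 1, 2, 9, 2, 1, 2], [1, 3, 6, 3, 1, 3], 10, true⟩) (lall (memL L) [2, 4, 7, 6, 7, 4, 7, 6, 7, 7, 2, 1, 2, 9, 2, 1, 2]) = true := by decide +kernel

theorem rot9_29 : T.rot 9 [2, 1, 2, 9, 7, 4, 7, 6, 7, 4, 7, 6, 7, 2, 2, 1, 2] (sel (ones 224) ip9 29) = true := by decide +kernel

theorem rot9_29r : band (Rule.ok (2 * 0) EX RL ⟨9 :: [2, 1, 2, 9, 7, 4, 7, 6, 7, 4, 7, 6, 7, 2, 2, 1, 2], [3, 1, 3], 10, false⟩) (lall (memL L) [2, 1, 2, 9, 7, 4, 7, 6, 7, 4, 7, 6, 7, 2, 2, 1, 2]) = true := by decide +kernel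

theorem rot9_30 : T.rot 9 [2, 1, 2, 9, 3, 4, 7, 6, 7, 4, 7, 6, 7, 8, 2, 1, 2] (sel (ones 224) ip9 30) = true := by decide +kernel

theorem rot9_30r : band (Rule.ok (2 * 0) EX RL ⟨9 :: [2, 1, 2, 9, 3, 4, 7, 6, 7, 4, 7, 6, 7, 8, 2, 1, 2], [4, 3, 1, 3], 11, true⟩) (lall (memL L) [2, 1, 2, 9, 3, 4, 7, 6, 7, 4, 7, 6, 7, 8, 2, 1, 2]) = true := by decide +kernel

theorem rot9_31 : T.rot 9 [2, 1, 2, 9, 8, 4, 7, 6, 7, 4, 7, 6, 7, 3, 2, 1, 2] (sel (ones 224) ip9 31) = true := by decide +kernel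

theorem rot9_31r : band (Rule.ok (2 * 0) EX RL ⟨9 :: [2, 1, 2, 9, 8, 4, 7, 6, 7, 4, 7, 6, 7, 3, 2, 1, 2], [3, 1, 3], 11, false⟩) (lall (memL L) [2, 1, 2, 9, 8, 4, 7, 6, 7, 4, 7, 6, 7, 3, 2, 1, 2]) = true := by decide +kernel

theorem rot9_32 : T.rot 9 [8, 4, 7, 6, 7, 4, 7, 6, 7, 3, 2, 1, 2, 9, 2, 1, 2] (sel (ones 224) ip9 32) = true := by decide +kernel

theorem rot9_32r : band (Rule.ok (2 * 0) EX RL ⟨9 :: [8, 4, 7, 6, 7, 4, 7, 6, 7, 3, 2, 1, 2, 9, 2, 1, 2], [3, 1, 3, 6, 3, 1, 3], 11, false⟩) (lall (memL L) [8, 4, 7, 6, 7, 4, 7, 6, 7, 3, 2, 1, 2, 9, 2, 1, 2]) = true := by decide +kernel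

theorem rot9_33 : T.rot 9 [7, 6, 7, 6, 9, 7, 9, 7, 6, 9, 4, 4, 1, 2, 4, 2, 4, 1, 2, 1, 2] (sel (ones 224) ip9 33) = true := by decide +kernel

theorem rot9_33r : band (Rule.ok (2 * 0) EX RL ⟨9 :: [7, 6, 7, 6, 9, 7, 9, 7, 6, 9, 4, 4, 1, 2, 4, 2, 4, 1, 2, 1, 2], [], 13, true⟩) (lall (memL L) [7, 6, 7, 6, 9, 7, 9, 7, 6, 9, 4, 4, 1, 2, 4, 2, 4, 1, 2, 1, 2]) = true := by decide +kernel

theorem rot9_34 : T.rot 9 [7, 9, 7, 6, 9, 4, 4, 1, 2, 4, 2, 4, 1, 2, 1, 2, 9, 7, 6, 7, 6] (sel (ones 224) ip9 34) = true := by decide +kernel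

theorem rot9_34r : band (Rule.ok (2 * 0) EX RL ⟨9 :: [7, 9, 7, 6, 9, 4, 4, 1, 2, 4, 2, 4, 1, 2, 1, 2, 9, 7, 6, 7, 6], [6, 2, 0, 2, 0], 13, true⟩) (lall (memL L) [7, 9, 7, 6, 9, 4, 4, 1, 2, 4, 2, 4, 1, 2, 1, 2, 9, 7, 6, 7, 6]) = true := by decide +kernel

theorem rot9_35 : T.rot 9 [7, 6, 9, 4, 4, 1, 2, 4, 2, 4, 1, 2, 1, 2, 9, 7, 6, 7, 6, 9, 7] (sel (ones 224) ip9 35) = true := by decide +kernel

theorem rot9_35r : band (Rule.ok (2 * 0) EX RL ⟨9 :: [7, 6, 9, 4, 4, 1, 2, 4, 2, 4, 1, 2, 1, 2, 9, 7, 6, 7, 6, 9, 7], [6, 2, 0, 2, 0, 6, 2], 13, true⟩) (lall (memL L) [7, 6, 9, 4, 4, 1, 2, 4, 2, 4, 1, 2, 1, 2, 9, 7, 6, 7, 6, 9, 7]) = true := by decide +kernel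

theorem rot9_36 : T.rot 9 [7, 9, 7, 6, 9, 9, 4, 1, 2, 4, 2, 4, 1, 2, 1, 2, 4, 7, 6, 7, 6] (sel (ones 224) ip9 36) = true := by decide +kernel

theorem rot9_36r : band (Rule.ok (2 * 0) EX RL ⟨9 :: [7, 9, 7, 6, 9, 9, 4, 1, 2, 4, 2, 4, 1, 2, 1, 2, 4, 7, 6, 7, 6], [2, 0, 2, 0], 13, false⟩) (lall (memL L) [7, 9, 7, 6, 9, 9, 4, 1, 2, 4, 2, 4, 1, 2, 1, 2, 4, 7, 6, 7, 6]) = true := by decide +kernel

theorem rot9_37 : T.rot 9 [2, 1, 2, 1, 3, 2, 9, 8, 9, 8, 6, 9, 4, 4, 1, 3, 4, 3, 4, 7, 8, 6, 7, 6, 7] (sel (ones 224) ip9 37) = true := by decide +kernel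

theorem rot9_37r : band (Rule.ok (2 * 0) EX RL ⟨9 :: [2, 1, 2, 1, 3, 2, 9, 8, 9, 8, 6, 9, 4, 4, 1, 3, 4, 3, 4, 7, 8, 6, 7, 6, 7], [], 12, true⟩) (lall (memL L) [2, 1, 2, 1, 3, 2, 9, 8, 9, 8, 6, 9, 4, 4, 1, 3, 4, 3, 4, 7, 8, 6, 7, 6, 7]) = true := by decide +kernel

theorem rot9_38 : T.rot 9 [8, 9, 8, 6, 9, 4, 4, 1, 3, 4, 3, 4, 7, 8, 6, 7, 6, 7, 9, 2, 1, 2, 1, 3, 2] (sel (ones 224) ip9 38) = true := by decide +kernel

theorem rot9_38r : band (Rule.ok (2 * 0) EX RL ⟨9 :: [8, 9, 8, 6, 9, 4, 4, 1, 3, 4, 3, 4, 7, 8, 6, 7, 6, 7, 9, 2, 1, 2, 1, 3, 2], [6, 3, 1, 3, 1, 5, 3], 12, true⟩) (lall (memL L) [8, 9, 8, 6, 9, 4, 4, 1, 3, 4, 3, 4, 7, 8, 6, 7, 6, 7, 9, 2, 1, 2, 1, 3, 2]) = true := by decide +kernel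

theorem rot9_39 : T.rot 9 [8, 9, 8, 6, 9, 9, 4, 1, 3, 4, 3, 4, 7, 8, 6, 7, 6, 7, 4, 2, 1, 2, 1, 3, 2] (sel (ones 224) ip9 39) = true := by decide +kernel

theorem rot9_39r : band (Rule.ok (2 * 0) EX RL ⟨9 :: [8, 9, 8, 6, 9, 9, 4, 1, 3, 4, 3, 4, 7, 8, 6, 7, 6, 7, 4, 2, 1, 2, 1, 3, 2], [3, 1, 3, 1, 5, 3], 12, false⟩) (lall (memL L) [8, 9, 8, 6, 9, 9, 4, 1, 3, 4, 3, 4, 7, 8, 6, 7, 6, 7, 4, 2, 1, 2, 1, 3, 2]) = true := by decide +kernel

theorem rot9_40 : T.rot 9 [8, 6, 9, 9, 4, 1, 3, 4, 3, 4, 7, 8, 6, 7, 6, 7, 4, 2, 1, 2, 1, 3, 2, 9, 8] (sel (ones 224) ip9 40) = true := by decide +kernel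

theorem rot9_40r : band (Rule.ok (2 * 0) EX RL ⟨9 :: [8, 6, 9, 9, 4, 1, 3, 4, 3, 4, 7, 8, 6, 7, 6, 7, 4, 2, 1, 2, 1, 3, 2, 9, 8], [3, 1, 3, 1, 5, 3, 6, 4], 12, false⟩) (lall (memL L) [8, 6, 9, 9, 4, 1, 3, 4, 3, 4, 7, 8, 6, 7, 6, 7, 4, 2, 1, 2, 1, 3, 2, 9, 8]) = true := by decide +kernel

theorem rot9_41 : T.rot 9 [9, 4, 1, 3, 4, 3, 4, 7, 8, 6, 7, 6, 7, 4, 2, 1, 2, 1, 3, 2, 9, 8, 9, 8, 6] (sel (ones 224) ip9 41) = true := by decide +kernel

theorem rot9_41r : band (Rule.ok (2 * 0) EX RL ⟨9 :: [9, 4, 1, 3, 4, 3, 4, 7, 8, 6, 7, 6, 7, 4, 2, 1, 2, 1, 3, 2, 9, 8, 9, 8, 6], [3, 1, 3, 1, 5, 3, 6, 4, 6, 4, 0], 12, false⟩) (lall (memL L) [9, 4, 1, 3, 4, 3, 4, 7, 8, 6, 7, 6, 7, 4, 2, 1, 2, 1, 3, 2, 9, 8, 9, 8, 6]) = true := by decide +kernel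

theorem cov9 : T.cover 9 [(sel (ones 224) ip9 1), (sel (ones 224) ip9 2), (sel (ones 224) ip9 3), (sel (ones 224) ip9 4), (sel (ones 224) ip9 5), (sel (ones 224) ip9 6), (sel (ones 224) ip9 7), (sel (ones 224) ip9 8), (sel (ones 224) ip9 9), (sel (ones 224) ip9 10), (sel (ones 224) ip9 11), (sel (ones 224) ip9 12), (sel (ones 224) ip9 13), (sel (ones 224) ip9 14), (sel (ones 224) ip9 15), (sel (ones 224) ip9 16), (sel (ones 224) ip9 17), (sel (ones 224) ip9 18), (sel (ones 224) ip9 19), (sel (ones 224) ip9 20), (sel (ones 224) ip9 21), (sel (ones 224) ip9 22), (sel (ones 224) ip9 23), (sel (ones 224) ip9 24), (sel (ones 224) ip9 25), (sel (ones 224) ip9 26), (sel (ones 224) ip9 27), (sel (ones 224) ip9 28), (sel (ones 224) ip9 29), (sel (ones 224) ip9 30), (sel (ones 224) ip9 31), (sel (ones 224) ip9 32), (sel (ones 224) ip9 33), (sel (ones 224) ip9 34), (sel (ones 224) ip9 35), (sel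 (ones 224) ip9 36), (sel (ones 224) ip9 37), (sel (ones 224) ip9 38), (sel (ones 224) ip9 39), (sel (ones 224) ip9 40), (sel (ones 224) ip9 41)] = true := by decide +kernel

theorem tl9 : T.treeLt 8 9 = true := by decide +kernel

theorem rot10_1 : T.rot 10 [5] (sel (ones 224) ip10 1) = true := by decide +kernel

theorem rot10_1r : band (Rule.ok (2 * 0) EX RL ⟨10 :: [5], [], 26, false⟩) (lall (memL L) [5]) = true := by decide +kernel

theorem rot10_2 : T.rot 10 [10] (sel (ones 224) ip10 2) = true := by decide +kernel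

theorem rot10_2r : band (Rule.ok (2 * 0) EX RL ⟨10 :: [10], [], 21, false⟩) (lall (memL L) [10]) = true := by decide +kernel

theorem rot10_3 : T.rot 10 [1, 5, 1] (sel (ones 224) ip10 3) = true := by decide +kernel

theorem rot10_3r : band (Rule.ok (2 * 0) EX RL ⟨10 :: [1, 5, 1], [1], 22, true⟩) (lall (memL L) [1, 5, 1]) = true := by decide +kernel

theorem rot10_4 : T.rot 10 [6, 5, 6] (sel (ones 224) ip10 4) = true := by decide +kernel

theorem rot10_4r : band (Rule.ok (2 * 0) EX RL ⟨10 :: [6, 5, 6], [], 22, false⟩) (lall (memL L) [6, 5, 6]) = true := by decide +kernel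

theorem rot10_5 : T.rot 10 [3, 5, 3] (sel (ones 224) ip10 5) = true := by decide +kernel

theorem rot10_5r : band (Rule.ok (2 * 0) EX RL ⟨10 :: [3, 5, 3], [5], 24, true⟩) (lall (memL L) [3, 5, 3]) = true := by decide +kernel

theorem rot10_6 : T.rot 10 [8, 5, 8] (sel (ones 224) ip10 6) = true := by decide +kernel

theorem rot10_6r : band (Rule.ok (2 * 0) EX RL ⟨10 :: [8, 5, 8], [], 24, false⟩) (lall (memL L) [8, 5, 8]) = true := by decide +kernel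

theorem rot10_7 : T.rot 10 [2, 5, 3, 9, 8, 4, 8] (sel (ones 224) ip10 7) = true := by decide +kernel

theorem rot10_7r : band (Rule.ok (2 * 0) EX RL ⟨10 :: [2, 5, 3, 9, 8, 4, 8], [8, 2, 9], 23, true⟩) (lall (memL L) [2, 5, 3, 9, 8, 4, 8]) = true := by decide +kernel

theorem rot10_8 : T.rot 10 [7, 5, 3, 9, 3, 4, 8] (sel (ones 224) ip10 8) = true := by decide +kernel

theorem rot10_8r : band (Rule.ok (2 * 0) EX RL ⟨10 :: [7, 5, 3, 9, 3, 4, 8], [], 23, false⟩) (lall (memL L) [7, 5, 3, 9, 3, 4, 8]) = true := by decide +kernel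

theorem rot10_9 : T.rot 10 [4, 5, 1, 7, 6, 2, 6] (sel (ones 224) ip10 9) = true := by decide +kernel

theorem rot10_9r : band (Rule.ok (2 * 0) EX RL ⟨10 :: [4, 5, 1, 7, 6, 2, 6], [8, 6, 9], 25, true⟩) (lall (memL L) [4, 5, 1, 7, 6, 2, 6]) = true := by decide +kernel

theorem rot10_10 : T.rot 10 [9, 5, 1, 7, 1, 2, 6] (sel (ones 224) ip10 10) = true := by decide +kernel

theorem rot10_10r : band (Rule.ok (2 * 0) EX RL ⟨10 :: [9, 5, 1, 7, 1, 2, 6], [], 25, false⟩) (lall (memL L) [9, 5, 1, 7, 1, 2, 6]) = true := by decide +kernel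

theorem cov10 : T.cover 10 [(sel (ones 224) ip10 1), (sel (ones 224) ip10 2), (sel (ones 224) ip10 3), (sel (ones 224) ip10 4), (sel (ones 224) ip10 5), (sel (ones 224) ip10 6), (sel (ones 224) ip10 7), (sel (ones 224) ip10 8), (sel (ones 224) ip10 9), (sel (ones 224) ip10 10)] = true := by decide +kernel

theorem tl10 : Nat.beq (T.let 10).tt 0 = true := by decide +kernel

end Cfsg.Agent.Spor.OnUc
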